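import Mathlib
import Cfsg.Agent.LieExceptional.BNPairCore
import Cfsg.Agent.Schreier.BNSch
import Cfsg.Agent.S0314
import Cfsg.Agent.H459.Gallery

/-!
# Automorphisms of finite groups with a (B, N)-pair of characteristic `r`: the trace argument (helper483, S3832)

`K` finite, `P : BNPair K`, every panel `P_s / B` of cardinality `≡ 1 mod r`.  Over `ZMod r` let `E M` be the matrix of
"in the same coset of `M`" on the chambers `K / B` (`B ≤ M`).
* `prod_E` : a long product of the `E (P_s)` is the all-one matrix;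
* `exists_near` : for every automorphism `x = conj u * y`, `y` fixing `B`, and every list `l` of minimal parabolics which
  meets every `y`-orbit of them, some conjugate of `x` is `conj v * y` with `v` in the product of the members of `l`.
-/

set_option autoImplicit false
set_option linter.unusedSectionVars false

namespace Cfsg.Agent.H483.Rad23.Trace

open Cfsg Subgroup Cfsg.Agent.LieExceptional.BNPairCore
open Cfsg.Agent.Schreier.BNSch (mem_parabolic_singleton B_le_parabolic mem_parabolic_self)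
open scoped Classical

variable {K : Type*} [Group K] [Finite K] (P : BNPair K) (r : ℕ)

/-- the chambers -/
abbrev Ch : Type _ := K ⧸ P.B

noncomputable instance instFintypeCh483 : Fintype (Ch P) := Fintype.ofFinite _

/-- the matrix of "in the same coset of `M`" -/
noncomputable def E (M : Subgroup K) : Matrix (Ch P) (Ch P) (ZMod r) :=
  fun a b => if ∃ g h : K, a = g ∧ b = h ∧ g⁻¹ * h ∈ M then 1 else 0

/-- the product of the matrices of a list -/
noncomputable def EL (l : List (Subgroup K)) : Matrix (Ch P) (Ch P) (ZMod r) := (l.map (E P r)).prod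

variable {P r}

theorem E_mk {M : Subgroup K} (hM : P.B ≤ M) (g h : K) :
    E P r M (g : Ch P) (h : Ch P) = if g⁻¹ * h ∈ M then 1 else 0 := by
  unfold E
  congr 1
  rw [eq_iff_iff]
  constructor
  · rintro ⟨g', h', hg, hh, hm⟩
    rw [QuotientGroup.eq] at hg hh
    have e : g⁻¹ * h = (g⁻¹ * g') * (g'⁻¹ * h') * (h⁻¹ * h')⁻¹ := by group
    rw [e]
    exact mul_mem (mul_mem (hM hg) hm) (inv_mem (hM hh))
  · intro hm
    exact ⟨g, h, rfl, rfl, hm⟩

theorem EL_nil : EL P r [] = 1 := rfl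

theorem EL_cons (M : Subgroup K) (l : List (Subgroup K)) : EL P r (M :: l) = E P r M * EL P r l := by
  simp [EL]

theorem EL_append (l l' : List (Subgroup K)) : EL P r (l ++ l') = EL P r l * EL P r l' := by
  simp [EL]

/-- equivariance -/
theorem E_smul {M : Subgroup K} (hM : P.B ≤ M) (k : K) (a b : Ch P) : E P r M (k • a) (k • b) = E P r M a b := by
  obtain ⟨g, rfl⟩ := QuotientGroup.mk_surjective a
  obtain ⟨h, rfl⟩ := QuotientGroup.mk_surjective b
  have h1 : k • (g : Ch P) = ((k * g : K) : Ch P) := rfl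
  have h2 : k • (h : Ch P) = ((k * h : K) : Ch P) := rfl
  rw [h1, h2, E_mk hM, E_mk hM]
  have e : (k * g)⁻¹ * (k * h) = g⁻¹ * h := by group
  rw [e]

theorem EL_smul {l : List (Subgroup K)} (hl : ∀ M ∈ l, P.B ≤ M) (k : K) (a b : Ch P) :
    EL P r l (k • a) (k • b) = EL P r l a b := by
  induction l generalizing a b with
  | nil =>
    rw [EL_nil, Matrix.one_apply, Matrix.one_apply]
    congr 1
    rw [eq_iff_iff]
    exact ⟨fun h => MulAction.injective k h, fun h => by rw [h]⟩
  | cons M l ih =>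
    rw [EL_cons, Matrix.mul_apply, Matrix.mul_apply]
    rw [← Equiv.sum_comp (MulAction.toPerm k)]
    refine Finset.sum_congr rfl fun c _ => ?_
    rw [MulAction.toPerm_apply, E_smul (hl M (by simp)), ih fun M hM => hl M (by simp [hM])]

variable (P r) in
/-- the entries from the base chamber -/
noncomputable def F (l : List (Subgroup K)) (g : K) : ZMod r := EL P r l ((1 : K) : Ch P) (g : Ch P)

theorem EL_eq_F {l : List (Subgroup K)} (hl : ∀ M ∈ l, P.B ≤ M) (g h : K) :
    EL P r l (g : Ch P) (h : Ch P) = F P r l (g⁻¹ * h) := by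
  unfold F
  rw [← EL_smul hl g ((1 : K) : Ch P)]
  congr 1
  · show (g : Ch P) = ((g * 1 : K) : Ch P)
    rw [mul_one]
  · show (h : Ch P) = ((g * (g⁻¹ * h) : K) : Ch P)
    rw [mul_inv_cancel_left]

theorem F_mul_right {l : List (Subgroup K)} (g : K) {b : K} (hb : b ∈ P.B) : F P r l (g * b) = F P r l g := by
  unfold F
  congr 1
  rw [QuotientGroup.eq]
  have e : (g * b)⁻¹ * g = b⁻¹ := by group
  rw [e]
  exact inv_mem hb

theorem F_mul_left {l : List (Subgroup K)} (hl : ∀ M ∈ l, P.B ≤ M) (g : K) {b : K} (hb : b ∈ P.B) :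
    F P r l (b * g) = F P r l g := by
  have h1 := EL_eq_F (r := r) hl b⁻¹ g
  rw [inv_inv] at h1
  rw [← h1]
  unfold F
  congr 1
  rw [QuotientGroup.eq]
  simpa using hb

theorem F_C {l : List (Subgroup K)} (hl : ∀ M ∈ l, P.B ≤ M) {g n : K} (h : g ∈ C P n) : F P r l g = F P r l n := by
  obtain ⟨x, hx, y, hy, rfl⟩ := mem_C.1 h
  rw [F_mul_right _ hy, F_mul_left hl _ hx]

theorem F_cons {M : Subgroup K} (hM : P.B ≤ M) {l : List (Subgroup K)} (g : K) :
    F P r (M :: l) g = ∑ c : Ch P, if c ∈ Set.range (fun m : M => ((m : K) : Ch P)) then EL P r l c (g : Ch P) else 0 := by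
  unfold F
  rw [EL_cons, Matrix.mul_apply]
  refine Finset.sum_congr rfl fun c _ => ?_
  obtain ⟨k, rfl⟩ := QuotientGroup.mk_surjective c
  rw [E_mk hM, inv_one, one_mul]
  by_cases hk : k ∈ M
  · rw [if_pos hk, if_pos ⟨⟨k, hk⟩, rfl⟩, one_mul]
  · rw [if_neg hk, if_neg, zero_mul]
    rintro ⟨m, hm⟩
    have h1 : ((m : K) : Ch P) = (k : Ch P) := hm
    rw [QuotientGroup.eq] at h1
    apply hk
    have e : k = (m : K) * ((m : K)⁻¹ * k) := by group
    rw [e]
    exact mul_mem m.2 (hM h1)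

/-- invariance of the first step -/
theorem F_cons_mul {M : Subgroup K} (hM : P.B ≤ M) {l : List (Subgroup K)} (hl : ∀ M ∈ l, P.B ≤ M) {m : K} (hm : m ∈ M)
    (g : K) : F P r (M :: l) (m * g) = F P r (M :: l) g := by
  rw [F_cons hM, F_cons hM, ← Equiv.sum_comp (MulAction.toPerm m)]
  refine Finset.sum_congr rfl fun c _ => ?_
  rw [MulAction.toPerm_apply]
  have h1 : m • c ∈ Set.range (fun m : M => ((m : K) : Ch P)) ↔ c ∈ Set.range (fun m : M => ((m : K) : Ch P)) := by
    constructor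
    · rintro ⟨k, hk⟩
      refine ⟨⟨m⁻¹ * k, mul_mem (inv_mem hm) k.2⟩, ?_⟩
      have h2 : ((m⁻¹ * k : K) : Ch P) = m⁻¹ • ((k : K) : Ch P) := rfl
      show ((m⁻¹ * k : K) : Ch P) = c
      rw [h2]
      have hk' : ((k : K) : Ch P) = m • c := hk
      rw [hk', inv_smul_smul]
    · rintro ⟨k, rfl⟩
      exact ⟨⟨m * k, mul_mem hm k.2⟩, rfl⟩
  have h3 : EL P r l (m • c) ((m * g : K) : Ch P) = EL P r l c (g : Ch P) := EL_smul hl m c (g : Ch P)
  by_cases h : c ∈ Set.range (fun m : M => ((m : K) : Ch P))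
  · rw [if_pos (h1.2 h), if_pos h, h3]
  · rw [if_neg (fun h' => h (h1.1 h')), if_neg h]

/-- the cardinality of the panel -/
theorem card_panel {M : Subgroup K} (hM : P.B ≤ M) :
    Nat.card ↥(Set.range (fun m : M => ((m : K) : Ch P))) = P.B.relIndex M := by
  unfold Subgroup.relIndex Subgroup.index
  symm
  refine Nat.card_congr (Equiv.ofBijective (fun q : M ⧸ P.B.subgroupOf M => Quotient.liftOn' q
    (fun m : M => (⟨((m : K) : Ch P), m, rfl⟩ : ↥(Set.range (fun m : M => ((m : K) : Ch P))))) ?_) ⟨?_, ?_⟩)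
  · intro a b hab
    rw [QuotientGroup.leftRel_apply, mem_subgroupOf] at hab
    apply Subtype.ext
    show ((a : K) : Ch P) = ((b : K) : Ch P)
    rw [QuotientGroup.eq]
    exact hab
  · intro q q'
    refine Quotient.inductionOn₂' q q' fun a b hab => ?_
    have h1 : ((a : K) : Ch P) = ((b : K) : Ch P) := congrArg Subtype.val hab
    rw [QuotientGroup.eq] at h1
    exact Quotient.sound' (QuotientGroup.leftRel_apply.2 (mem_subgroupOf.2 h1))
  · rintro ⟨_, m, rfl⟩
    exact ⟨Quotient.mk'' m, rfl⟩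

theorem B_le_of_list {l : List (Subgroup K)} (hl : ∀ M ∈ l, ∃ s ∈ P.S, M = P.parabolic {s}) : ∀ M ∈ l, P.B ≤ M := by
  intro M hM
  obtain ⟨s, -, rfl⟩ := hl M hM
  exact B_le_parabolic P _

/-- **the first step is towards the base chamber** -/
theorem F_cons_up {l : List (Subgroup K)} (hl : ∀ M ∈ l, P.B ≤ M) {s n : K} (hs : s ∈ P.S) (hn : n ∈ P.N)
    (hidx : ((P.B.relIndex (P.parabolic {s}) : ℕ) : ZMod r) = 1) (h : len P n ≤ len P (s * n)) :
    F P r (P.parabolic {s} :: l) n = F P r l n := by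
  classical
  have hM := B_le_parabolic P {s}
  rw [F_cons hM, ← Finset.sum_filter]
  set R : Set (Ch P) := Set.range (fun m : P.parabolic {s} => ((m : K) : Ch P)) with hR
  have h1R : ((1 : K) : Ch P) ∈ Finset.univ.filter (· ∈ R) := by
    rw [Finset.mem_filter]
    exact ⟨Finset.mem_univ _, ⟨1, rfl⟩⟩
  rw [← Finset.add_sum_erase _ _ h1R]
  have h2 : ∀ c ∈ (Finset.univ.filter (· ∈ R)).erase ((1 : K) : Ch P), EL P r l c (n : Ch P) = F P r l (s * n) := by
    intro c hc
    rw [Finset.mem_erase, Finset.mem_filter] at hc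
    obtain ⟨hc1, -, ⟨m, rfl⟩⟩ := hc
    rw [EL_eq_F hl]
    rcases mem_parabolic_singleton P hs m.2 with h3 | ⟨b, hb, b', hb', h3⟩
    · exfalso
      apply hc1
      rw [QuotientGroup.eq]
      simpa using inv_mem h3
    · rw [h3]
      apply F_C hl
      -- `(b s b')⁻¹ n = b'⁻¹ s⁻¹ b⁻¹ n`
      have h4 : s * ((s * s)⁻¹ * b⁻¹) * n ∈ C P (s * n) :=
        mul_mem_C_of_le hs hn (mul_mem (inv_sq_mem hs) (inv_mem hb)) h
      have e : (b * s * b')⁻¹ * n = b'⁻¹ * (s * ((s * s)⁻¹ * b⁻¹) * n) := by group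
      rw [e]
      exact mul_mem_C_left (inv_mem hb') h4
  rw [Finset.sum_congr rfl h2, Finset.sum_const, Finset.card_erase_of_mem h1R]
  have h5 : (Finset.univ.filter (· ∈ R)).card = P.B.relIndex (P.parabolic {s}) := by
    rw [← card_panel hM, Nat.card_eq_fintype_card, Fintype.card_subtype]
  have h6 : 0 < (Finset.univ.filter (· ∈ R)).card := Finset.card_pos.2 ⟨_, h1R⟩
  rw [nsmul_eq_mul, Nat.cast_sub (by omega), h5, hidx, Nat.cast_one, sub_self, zero_mul, add_zero]
  rfl

theorem F_cons_down {l : List (Subgroup K)} (hl : ∀ M ∈ l, P.B ≤ M) {s n : K} (hs : s ∈ P.S) (hn : n ∈ P.N)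
    (hidx : ((P.B.relIndex (P.parabolic {s}) : ℕ) : ZMod r) = 1) (h : len P (s * n) ≤ len P n) :
    F P r (P.parabolic {s} :: l) n = F P r l (s * n) := by
  have h1 := F_cons_mul (r := r) (B_le_parabolic P {s}) hl (mem_parabolic_self P s) n
  rw [← h1]
  refine F_cons_up hl hs (mul_mem (mem_N hs) hn) hidx ?_
  rw [len_congr (rel_sq_mul hs hn)]
  exact h

/-- stripping letters -/
theorem strip (hidx : ∀ s ∈ P.S, ((P.B.relIndex (P.parabolic {s}) : ℕ) : ZMod r) = 1)
    {l' : List (Subgroup K)} (hl' : ∀ M ∈ l', P.B ≤ M) (l : List (Subgroup K))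
    (hl : ∀ M ∈ l, ∃ s ∈ P.S, M = P.parabolic {s}) {n : K} (hn : n ∈ P.N) :
    ∃ n' ∈ P.N, F P r (l ++ l') n = F P r l' n' ∧
      (len P n' < len P n ∨ (n' = n ∧ ∀ s ∈ P.S, P.parabolic {s} ∈ l → len P n ≤ len P (s * n))) := by
  induction l generalizing n with
  | nil => exact ⟨n, hn, rfl, Or.inr ⟨rfl, fun s _ h => absurd h (by simp)⟩⟩
  | cons M l ih =>
    obtain ⟨s, hs, rfl⟩ := hl _ (by simp : M ∈ M :: l)
    have hl1 : ∀ M ∈ l, ∃ s ∈ P.S, M = P.parabolic {s} := fun M hM => hl M (by simp [hM])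
    have hlB : ∀ M ∈ l ++ l', P.B ≤ M := by
      intro M hM
      rcases List.mem_append.1 hM with h | h
      · exact B_le_of_list hl1 M h
      · exact hl' M h
    rcases le_or_gt (len P n) (len P (s * n)) with h | h
    · obtain ⟨n', hn', h1, h2⟩ := ih hl1 hn
      refine ⟨n', hn', ?_, ?_⟩
      · rw [List.cons_append, F_cons_up hlB hs hn (hidx s hs) h, h1]
      · rcases h2 with h2 | ⟨h2, h3⟩
        · exact Or.inl h2
        · refine Or.inr ⟨h2, fun t ht htl => ?_⟩
          rcases List.mem_cons.1 htl with h4 | h4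
          · have h5 := Cfsg.Agent.S0314.result P (Set.singleton_subset_iff.2 ht) (Set.singleton_subset_iff.2 hs) h4
            rw [Set.singleton_eq_singleton_iff.1 h5]
            exact h
          · exact h3 t ht h4
    · obtain ⟨n', hn', h1, h2⟩ := ih hl1 (mul_mem (mem_N hs) hn)
      refine ⟨n', hn', ?_, Or.inl ?_⟩
      · rw [List.cons_append, F_cons_down hlB hs hn (hidx s hs) h.le, h1]
      · rcases h2 with h2 | ⟨h2, -⟩
        · omega
        · rw [h2]; exact h

/-- `m` blocks meeting all the minimal parabolics -/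
def Full (P : BNPair K) : ℕ → List (Subgroup K) → Prop
  | 0, l => ∀ M ∈ l, ∃ s ∈ P.S, M = P.parabolic {s}
  | m + 1, l => ∃ l₁ l₂, l = l₁ ++ l₂ ∧ (∀ M ∈ l₁, ∃ s ∈ P.S, M = P.parabolic {s}) ∧
      (∀ s ∈ P.S, P.parabolic {s} ∈ l₁) ∧ Full P m l₂

theorem Full.list {m : ℕ} {l : List (Subgroup K)} (h : Full P m l) : ∀ M ∈ l, ∃ s ∈ P.S, M = P.parabolic {s} := by
  induction m generalizing l with
  | zero => exact h
  | succ m ih =>
    obtain ⟨l₁, l₂, rfl, h1, -, h2⟩ := h
    intro M hM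
    rcases List.mem_append.1 hM with h3 | h3
    · exact h1 M h3
    · exact ih h2 M h3

theorem F_one (hidx : ∀ s ∈ P.S, ((P.B.relIndex (P.parabolic {s}) : ℕ) : ZMod r) = 1) (l : List (Subgroup K))
    (hl : ∀ M ∈ l, ∃ s ∈ P.S, M = P.parabolic {s}) {n : K} (hn : n ∈ P.B) : F P r l n = 1 := by
  have h0 : F P r l n = F P r l 1 := by
    have := F_mul_right (P := P) (r := r) (l := l) 1 hn
    rwa [one_mul] at this
  rw [h0]
  clear h0
  induction l with
  | nil =>
    show (1 : Matrix (Ch P) (Ch P) (ZMod r)) _ _ = 1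
    rw [Matrix.one_apply_eq]
  | cons M l ih =>
    obtain ⟨s, hs, rfl⟩ := hl _ (by simp : M ∈ M :: l)
    have hl1 : ∀ M ∈ l, ∃ s ∈ P.S, M = P.parabolic {s} := fun M hM => hl M (by simp [hM])
    rw [F_cons_up (B_le_of_list hl1) hs (one_mem _) (hidx s hs) (by rw [len_one]; exact Nat.zero_le _)]
    exact ih hl1

/-- the entries of long words -/
theorem F_full (hidx : ∀ s ∈ P.S, ((P.B.relIndex (P.parabolic {s}) : ℕ) : ZMod r) = 1) {m : ℕ}
    {l : List (Subgroup K)} (h : Full P m l) {n : K} (hn : n ∈ P.N) (hm : len P n ≤ m) : F P r l n = 1 := by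
  induction m generalizing l n with
  | zero =>
    exact F_one hidx l h ((len_eq_zero_iff hn).1 (Nat.le_zero.1 hm))
  | succ m ih =>
    have hlist := h.list
    by_cases h0 : n ∈ P.B
    · exact F_one hidx l hlist h0
    obtain ⟨l₁, l₂, rfl, h1, h2, h3⟩ := h
    obtain ⟨n', hn', h4, h5⟩ := strip hidx (B_le_of_list h3.list) l₁ h1 hn
    rw [h4]
    rcases h5 with h5 | ⟨-, h5⟩
    · exact ih h3 hn' (by omega)
    · exfalso
      obtain ⟨w, hw, hwS, hwn⟩ := exists_reduced (P := P) hn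
      rcases w with _ | ⟨s, w⟩
      · rw [List.prod_nil, inv_one, one_mul] at hwn
        exact h0 hwn
      · have hs := hwS s (by simp)
        have h6 := h5 s hs (h2 s hs)
        have hwS' : ∀ t ∈ w, t ∈ P.S := fun t ht => hwS t (by simp [ht])
        have h7 : len P (s * n) ≤ w.length := by
          refine len_le hwS' ?_
          -- `w⁻¹ (s n) ∈ B`
          rw [List.prod_cons] at hwn
          have hwN := prod_mem_N (P := P) hwS'
          have e1 : (s * (s * w.prod))⁻¹ * (s * n) ∈ P.B := rel_mul_left s hwn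
          exact rel_trans (rel_symm (rel_sq_mul hs hwN)) e1
        rw [List.length_cons] at hw
        omega

/-- `EL` of a full list is the all-one matrix -/
theorem EL_full (hidx : ∀ s ∈ P.S, ((P.B.relIndex (P.parabolic {s}) : ℕ) : ZMod r) = 1) {m : ℕ}
    {l : List (Subgroup K)} (h : Full P m l) (hm : ∀ n ∈ P.N, len P n ≤ m) (a b : Ch P) : EL P r l a b = 1 := by
  obtain ⟨g, rfl⟩ := QuotientGroup.mk_surjective a
  obtain ⟨k, rfl⟩ := QuotientGroup.mk_surjective b
  have hB := B_le_of_list h.list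
  rw [EL_eq_F hB]
  obtain ⟨n, hn, hC⟩ := bruhat (P := P) (g⁻¹ * k)
  rw [F_C hB hC]
  exact F_full hidx h hn (hm n hn)

theorem exists_bound : ∃ m, ∀ n ∈ P.N, len P n ≤ m := by
  obtain ⟨m, hm⟩ := (Set.toFinite (Set.range fun n : K => len P n)).bddAbove
  exact ⟨m, fun n _ => hm ⟨n, rfl⟩⟩

/-! ### The automorphism -/

section Aut

variable {y : MulAut K} (hyB : ∀ b ∈ P.B, y b ∈ P.B) (u : K)

/-- the permutation of the chambers -/
noncomputable def pi : Ch P → Ch P := Quotient.map' (s₁ := QuotientGroup.leftRel P.B) (s₂ := QuotientGroup.leftRel P.B)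
  (fun g => u * y g) (by
    intro a b hab
    rw [QuotientGroup.leftRel_apply] at hab ⊢
    have h1 := hyB _ hab
    have e : (u * y a)⁻¹ * (u * y b) = y (a⁻¹ * b) := by rw [map_mul, map_inv]; group
    rw [e]
    exact h1)

theorem pi_mk (g : K) : pi hyB u (g : Ch P) = ((u * y g : K) : Ch P) := rfl

include hyB in
theorem map_B : P.B.map y.toMonoidHom = P.B :=
  Subgroup.eq_of_le_of_card_ge (by rintro _ ⟨a, ha, rfl⟩; exact hyB a ha)
    (le_of_eq (Subgroup.card_map_of_injective y.injective).symm)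

include hyB in
theorem le_map {M : Subgroup K} (hM : P.B ≤ M) : P.B ≤ M.map y.toMonoidHom := by
  rw [← map_B hyB]
  exact Subgroup.map_mono hM

theorem E_pi {M : Subgroup K} (hM : P.B ≤ M) (a b : Ch P) :
    E P r (M.map y.toMonoidHom) (pi hyB u a) (pi hyB u b) = E P r M a b := by
  obtain ⟨g, rfl⟩ := QuotientGroup.mk_surjective a
  obtain ⟨h, rfl⟩ := QuotientGroup.mk_surjective b
  rw [pi_mk, pi_mk, E_mk (le_map hyB hM), E_mk hM]
  have e : (u * y g)⁻¹ * (u * y h) = y (g⁻¹ * h) := by rw [map_mul, map_inv]; group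
  rw [e]
  congr 1
  rw [eq_iff_iff]
  constructor
  · rintro ⟨m, hm, h1⟩
    have h2 : m = g⁻¹ * h := y.injective h1
    rwa [← h2]
  · intro h1
    exact ⟨_, h1, rfl⟩

theorem pi_injective : Function.Injective (pi hyB u) := by
  intro a b hab
  by_contra hne
  have h1 := E_pi (r := 0) hyB u le_rfl a b
  obtain ⟨g, rfl⟩ := QuotientGroup.mk_surjective a
  obtain ⟨h, rfl⟩ := QuotientGroup.mk_surjective b
  have h2 : E P 0 P.B (g : Ch P) (h : Ch P) = 0 := by
    rw [E_mk le_rfl, if_neg]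
    intro h3
    exact hne (QuotientGroup.eq.2 h3)
  have h3 : E P 0 (P.B.map y.toMonoidHom) (pi hyB u (g : Ch P)) (pi hyB u (h : Ch P)) = 1 := by
    rw [hab, map_B hyB]
    obtain ⟨k, hk⟩ := QuotientGroup.mk_surjective (pi hyB u (h : Ch P))
    rw [← hk, E_mk le_rfl, inv_mul_cancel, if_pos (one_mem _)]
  rw [h2, h3] at h1
  exact one_ne_zero h1

/-- `pi` as a permutation -/
noncomputable def piE : Equiv.Perm (Ch P) :=
  Equiv.ofBijective (pi hyB u) (Finite.injective_iff_bijective.1 (pi_injective hyB u))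

theorem EL_pi {l : List (Subgroup K)} (hl : ∀ M ∈ l, P.B ≤ M) (a b : Ch P) :
    EL P r (l.map fun M => M.map y.toMonoidHom) (pi hyB u a) (pi hyB u b) = EL P r l a b := by
  induction l generalizing a b with
  | nil =>
    rw [List.map_nil, EL_nil, Matrix.one_apply, Matrix.one_apply]
    congr 1
    rw [eq_iff_iff]
    exact ⟨fun h => pi_injective hyB u h, fun h => by rw [h]⟩
  | cons M l ih =>
    rw [List.map_cons, EL_cons, EL_cons, Matrix.mul_apply, Matrix.mul_apply, ← Equiv.sum_comp (piE hyB u)]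
    refine Finset.sum_congr rfl fun c _ => ?_
    show E P r _ (pi hyB u a) (pi hyB u c) * EL P r _ (pi hyB u c) (pi hyB u b) = _
    rw [E_pi hyB u (hl M (by simp)), ih fun M hM => hl M (by simp [hM])]

/-- the matrix `X E_l` -/
noncomputable def Y (r : ℕ) (l : List (Subgroup K)) : Matrix (Ch P) (Ch P) (ZMod r) :=
  fun a b => EL P r l (pi hyB u a) b

/-- the words of the powers -/
def wd (y : MulAut K) (l : List (Subgroup K)) : ℕ → List (Subgroup K)
  | 0 => []
  | k + 1 => (wd y l k).map (fun M => M.map y.toMonoidHom) ++ l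

include hyB in
theorem wd_le {l : List (Subgroup K)} (hl : ∀ M ∈ l, P.B ≤ M) (k : ℕ) : ∀ M ∈ wd y l k, P.B ≤ M := by
  induction k with
  | zero => intro M hM; simp [wd] at hM
  | succ k ih =>
    intro M hM
    rcases List.mem_append.1 hM with h | h
    · obtain ⟨M', hM', rfl⟩ := List.mem_map.1 h
      exact le_map hyB (ih M' hM')
    · exact hl M h

theorem Y_pow {l : List (Subgroup K)} (hl : ∀ M ∈ l, P.B ≤ M) (k : ℕ) (a b : Ch P) :
    (Y hyB u r l ^ k) a b = EL P r (wd y l k) ((pi hyB u)^[k] a) b := by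
  induction k generalizing a b with
  | zero => rw [pow_zero]; rfl
  | succ k ih =>
    rw [pow_succ, Matrix.mul_apply]
    show _ = EL P r ((wd y l k).map (fun M => M.map y.toMonoidHom) ++ l) _ b
    rw [EL_append, Matrix.mul_apply, ← Equiv.sum_comp (piE hyB u) (fun c => EL P r _ _ c * EL P r l c b)]
    refine Finset.sum_congr rfl fun c _ => ?_
    rw [ih, Function.iterate_succ_apply']
    show _ = EL P r _ (pi hyB u ((pi hyB u)^[k] a)) (pi hyB u c) * EL P r l (pi hyB u c) b
    rw [EL_pi hyB u (wd_le hyB hl k)]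
    rfl

theorem wd_add (l : List (Subgroup K)) (i j : ℕ) :
    wd y l (i + j) = (wd y l i).map (fun M => M.map (y ^ j).toMonoidHom) ++ wd y l j := by
  induction j with
  | zero =>
    have : (fun M : Subgroup K => M.map (y ^ 0).toMonoidHom) = id := by
      funext M
      rw [pow_zero]
      exact Subgroup.map_id _
    rw [add_zero, this, List.map_id]
    simp [wd]
  | succ j ih =>
    rw [← add_assoc]
    show (wd y l (i + j)).map _ ++ l = _
    rw [ih, List.map_append, List.map_map, List.append_assoc]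
    show _ = _ ++ ((wd y l j).map (fun M => M.map y.toMonoidHom) ++ l)
    congr 2
    funext M
    show (M.map (y ^ j).toMonoidHom).map y.toMonoidHom = M.map (y ^ (j + 1)).toMonoidHom
    rw [Subgroup.map_map, pow_succ']
    rfl

theorem mem_wd {l : List (Subgroup K)} {M : Subgroup K} (hM : M ∈ l) {i k : ℕ} (hik : i < k) :
    M.map (y ^ i).toMonoidHom ∈ wd y l k := by
  obtain ⟨j, rfl⟩ : ∃ j, k = (j + 1) + i := ⟨k - i - 1, by omega⟩
  rw [wd_add]
  refine List.mem_append_left _ (List.mem_map.2 ⟨M, ?_, rfl⟩)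
  show M ∈ (wd y l j).map _ ++ l
  exact List.mem_append_right _ hM

include hyB in
theorem wd_list {l : List (Subgroup K)} (hl : ∀ M ∈ l, ∃ s ∈ P.S, M = P.parabolic {s}) (k : ℕ) :
    ∀ M ∈ wd y l k, ∃ s ∈ P.S, M = P.parabolic {s} := by
  induction k with
  | zero => intro M hM; simp [wd] at hM
  | succ k ih =>
    intro M hM
    rcases List.mem_append.1 hM with h | h
    · obtain ⟨M', hM', rfl⟩ := List.mem_map.1 h
      obtain ⟨s, hs, rfl⟩ := ih M' hM'
      obtain ⟨t, ht, h1⟩ := Cfsg.Agent.Schreier.BNSch.exists_map_eq P y (map_B hyB) hs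
      exact ⟨t, ht, h1⟩
    · exact hl M h

include hyB in
theorem full_wd {l : List (Subgroup K)} (hl : ∀ M ∈ l, ∃ s ∈ P.S, M = P.parabolic {s})
    (hcov : ∀ s ∈ P.S, ∃ i : ℕ, ∃ M ∈ l, P.parabolic {s} = M.map (y ^ i).toMonoidHom) (m : ℕ) :
    Full P m (wd y l (m * orderOf y)) := by
  induction m with
  | zero => exact wd_list hyB hl _
  | succ m ih =>
    have h1 : (m + 1) * orderOf y = orderOf y + m * orderOf y := by ring
    rw [h1, wd_add]
    have h2 : (fun M : Subgroup K => M.map (y ^ (m * orderOf y)).toMonoidHom) = id := by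
      funext M
      rw [mul_comm, pow_mul, pow_orderOf_eq_one, one_pow]
      exact Subgroup.map_id _
    rw [h2, List.map_id]
    refine ⟨_, _, rfl, wd_list hyB hl _, fun s hs => ?_, ih⟩
    obtain ⟨i, M, hM, h3⟩ := hcov s hs
    have h4 := mem_wd (y := y) hM (Nat.mod_lt i (orderOf_pos y))
    rw [pow_mod_orderOf] at h4
    rwa [h3]

theorem Full.prefix {m : ℕ} {l l' : List (Subgroup K)} (h : Full P (m + 1) l)
    (hl' : ∀ M ∈ l', ∃ s ∈ P.S, M = P.parabolic {s}) : Full P (m + 1) (l' ++ l) := by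
  obtain ⟨l₁, l₂, rfl, h1, h2, h3⟩ := h
  refine ⟨l' ++ l₁, l₂, by rw [List.append_assoc], fun M hM => ?_, fun s hs => List.mem_append_right _ (h2 s hs), h3⟩
  rcases List.mem_append.1 hM with h | h
  · exact hl' M h
  · exact h1 M h

variable (P) in
/-- the product set of a list of subgroups and `B` -/
def Pr : List (Subgroup K) → Set K
  | [] => P.B
  | M :: l => {g | ∃ m ∈ M, m⁻¹ * g ∈ Pr l}

theorem mem_Pr_of_ne {l : List (Subgroup K)} (hl : ∀ M ∈ l, P.B ≤ M) {g h : K}
    (hne : EL P r l (g : Ch P) (h : Ch P) ≠ 0) : g⁻¹ * h ∈ Pr P l := by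
  induction l generalizing g with
  | nil =>
    rw [EL_nil, Matrix.one_apply] at hne
    have h1 : (g : Ch P) = (h : Ch P) := by
      by_contra h2
      rw [if_neg h2] at hne
      exact hne rfl
    exact QuotientGroup.eq.1 h1
  | cons M l ih =>
    rw [EL_cons, Matrix.mul_apply] at hne
    obtain ⟨c, -, hc⟩ := Finset.exists_ne_zero_of_sum_ne_zero hne
    obtain ⟨k, rfl⟩ := QuotientGroup.mk_surjective c
    have h1 := left_ne_zero_of_mul hc
    have h2 := ih (fun M hM => hl M (by simp [hM])) (right_ne_zero_of_mul hc)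
    rw [E_mk (hl M (by simp))] at h1
    have h3 : g⁻¹ * k ∈ M := by
      by_contra h4
      rw [if_neg h4] at h1
      exact h1 rfl
    refine ⟨g⁻¹ * k, h3, ?_⟩
    have e : (g⁻¹ * k)⁻¹ * (g⁻¹ * h) = k⁻¹ * h := by group
    rwa [e]

open Cfsg.Agent.H459.Gallery in
include hyB in
/-- **The trace argument.** -/
theorem exists_near [hr : Fact r.Prime] (hidx : ∀ s ∈ P.S, ((P.B.relIndex (P.parabolic {s}) : ℕ) : ZMod r) = 1)
    (hB : ((P.B.index : ℕ) : ZMod r) ≠ 0) {l : List (Subgroup K)}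
    (hl : ∀ M ∈ l, ∃ s ∈ P.S, M = P.parabolic {s})
    (hcov : ∀ s ∈ P.S, ∃ i : ℕ, ∃ M ∈ l, P.parabolic {s} = M.map (y ^ i).toMonoidHom) :
    ∃ g v : K, cx (MulAut.conj u * y) g = MulAut.conj v * y ∧ v⁻¹ ∈ Pr P l := by
  obtain ⟨m, hm⟩ := exists_bound (P := P)
  have hlB := B_le_of_list hl
  -- a large power of `r`
  obtain ⟨N, hN⟩ : ∃ N : ℕ, (m + 1) * orderOf y ≤ r ^ N := ⟨(m + 1) * orderOf y, (Nat.lt_pow_self hr.out.one_lt).le⟩
  obtain ⟨e, he⟩ := Nat.exists_eq_add_of_le hN
  have hfull : Full P (m + 1) (wd y l (r ^ N)) := by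
    rw [he, add_comm _ e, wd_add]
    have h2 : (fun M : Subgroup K => M.map (y ^ ((m + 1) * orderOf y)).toMonoidHom) = id := by
      funext M
      rw [mul_comm, pow_mul, pow_orderOf_eq_one, one_pow]
      exact Subgroup.map_id _
    rw [h2, List.map_id]
    exact Full.prefix (full_wd hyB hl hcov (m + 1)) (wd_list hyB hl e)
  have hone : ∀ a b, (Y hyB u r l ^ r ^ N) a b = 1 := by
    intro a b
    rw [Y_pow hyB u hlB]
    exact EL_full hidx hfull (fun n hn => (hm n hn).trans (Nat.le_succ m)) _ _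
  have htr : Matrix.trace (Y hyB u r l ^ r ^ N) = ((P.B.index : ℕ) : ZMod r) := by
    unfold Matrix.trace
    have h1 : ∀ a : Ch P, Matrix.diag (Y hyB u r l ^ r ^ N) a = 1 := fun a => hone a a
    rw [Finset.sum_congr rfl fun a _ => h1 a, Finset.sum_const, nsmul_eq_mul, mul_one, Finset.card_univ,
      ← Nat.card_eq_fintype_card]
    rfl
  have hpow : ∀ N : ℕ, Matrix.trace (Y hyB u r l ^ r ^ N) = Matrix.trace (Y hyB u r l) := by
    intro N
    induction N with
    | zero => rw [pow_zero, pow_one]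
    | succ N ih =>
      rw [pow_succ, pow_mul, ZMod.trace_pow_card, ih, ZMod.pow_card]
  have hne : Matrix.trace (Y hyB u r l) ≠ 0 := by
    rw [← hpow N, htr]
    exact hB
  obtain ⟨a, -, ha⟩ := Finset.exists_ne_zero_of_sum_ne_zero hne
  obtain ⟨g, rfl⟩ := QuotientGroup.mk_surjective a
  have h1 : EL P r l (pi hyB u (g : Ch P)) (g : Ch P) ≠ 0 := ha
  rw [pi_mk] at h1
  have h2 := mem_Pr_of_ne hlB h1
  refine ⟨g, g⁻¹ * u * y g, ?_, ?_⟩
  · ext k
    rw [cx_apply, MulAut.mul_apply, MulAut.mul_apply, MulAut.conj_apply, MulAut.conj_apply, map_mul, map_mul, map_inv]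
    group
  · have e : (g⁻¹ * u * y g)⁻¹ = (u * y g)⁻¹ * g := by group
    rwa [e]

end Aut

end Cfsg.Agent.H483.Rad23.Trace
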