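import Mathlib
import Cfsg.Agent.H483.Rad23.Trace

/-!
# Words with distinct letters in the Weyl group of a (B, N)-pair (helper483, S3832)

* `len_nodup` : a word with distinct letters is reduced;
* `exists_sublist` : the product set of minimal parabolics;
* `sigma`, `map_mem_C` : the action of an automorphism fixing `B`;
* `not_rev` : `w` and its reverse are different elements if the first and the last letter do not commute.
-/

set_option autoImplicit false
set_option linter.unusedSectionVars false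

namespace Cfsg.Agent.H483.Rad23.Word

open Cfsg Subgroup Cfsg.Agent.LieExceptional.BNPairCore Cfsg.Agent.H483.Rad23.Trace
open Cfsg.Agent.Schreier.BNSch (mem_parabolic_singleton B_le_parabolic mem_parabolic_self)

variable {K : Type*} [Group K] {P : BNPair K}

/-- the letters of a word generate, together with `B ∩ N`, a subgroup containing the product -/
theorem prod_mem_sup {w : List K} {J : Set K} (hw : ∀ s ∈ w, s ∈ J) :
    w.prod ∈ closure J ⊔ (P.B ⊓ P.N) :=
  mem_sup_left (Subgroup.list_prod_mem _ fun s hs => subset_closure (hw s hs))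

theorem mem_BN {a b : K} (h : a⁻¹ * b ∈ P.B) (ha : a ∈ P.N) (hb : b ∈ P.N) : a⁻¹ * b ∈ P.B ⊓ P.N :=
  Subgroup.mem_inf.2 ⟨h, P.N.mul_mem (P.N.inv_mem ha) hb⟩

/-- a new letter on the left -/
theorem lt_cons {w : List K} (hw : ∀ s ∈ w, s ∈ P.S) {s : K} (hs : s ∈ P.S) (hsw : s ∉ w) :
    len P w.prod < len P (s * w.prod) := by
  by_contra hcon
  push Not at hcon
  obtain ⟨l₁, a, l₂, h1, h2⟩ := exchange hs w hw hcon
  have hl₁ : ∀ t ∈ l₁, t ∈ w := fun t ht => by rw [h1]; exact List.mem_append_left _ ht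
  have haw : a ∈ w := by rw [h1]; simp
  have hJ : {t | t ∈ w} ⊆ P.S := fun t ht => hw t ht
  apply hsw
  have h3 : s ∈ {t | t ∈ w} := by
    apply mem_of_mem_closure_sup hJ hs
    have e1 : l₁.prod ∈ closure {t | t ∈ w} ⊔ (P.B ⊓ P.N) := prod_mem_sup hl₁
    have e2 : a ∈ closure {t | t ∈ w} ⊔ (P.B ⊓ P.N) := mem_sup_left (subset_closure haw)
    have hl₁N := prod_mem_N (P := P) fun t ht => hw t (hl₁ t ht)
    have e3 : (s * l₁.prod)⁻¹ * (l₁.prod * a) ∈ closure {t | t ∈ w} ⊔ (P.B ⊓ P.N) :=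
      mem_sup_right (mem_BN h2 (mul_mem (mem_N hs) hl₁N) (mul_mem hl₁N (mem_N (hw a haw))))
    have e : s = (l₁.prod * a) * ((s * l₁.prod)⁻¹ * (l₁.prod * a))⁻¹ * l₁.prod⁻¹ := by group
    rw [e]
    exact mul_mem (mul_mem (mul_mem e1 e2) (inv_mem e3)) (inv_mem e1)
  exact h3

theorem len_nodup {w : List K} (hw : ∀ s ∈ w, s ∈ P.S) (hn : w.Nodup) : len P w.prod = w.length := by
  induction w with
  | nil => rw [List.prod_nil, len_one]; rfl
  | cons s w ih =>
    rw [List.nodup_cons] at hn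
    have hs := hw s (by simp)
    have hw' : ∀ t ∈ w, t ∈ P.S := fun t ht => hw t (by simp [ht])
    have h1 := ih hw' hn.2
    have h2 := lt_cons hw' hs hn.1
    have h3 := len_mul_left_le (P := P) hs (prod_mem_N hw')
    rw [List.prod_cons, List.length_cons]
    omega

/-- multiplication by a new letter -/
theorem mul_mem_cons {w : List K} (hw : ∀ s ∈ w, s ∈ P.S) {s : K} (hs : s ∈ P.S) (hsw : s ∉ w) {m g : K}
    (hm : m ∈ C P s) (hg : g ∈ C P w.prod) : m * g ∈ C P (s * w.prod) := by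
  obtain ⟨b, hb, b', hb', rfl⟩ := mem_C.1 hm
  obtain ⟨c, hc, c', hc', rfl⟩ := mem_C.1 hg
  have h1 : s * (b' * c) * w.prod ∈ C P (s * w.prod) :=
    mul_mem_C_of_le hs (prod_mem_N hw) (mul_mem hb' hc) (lt_cons hw hs hsw).le
  have e : b * s * b' * (c * w.prod * c') = b * (s * (b' * c) * w.prod) * c' := by group
  rw [e]
  exact mul_mem_C_right hc' (mul_mem_C_left hb h1)

/-- **the product set of minimal parabolics** -/
theorem exists_sublist {w : List K} (hw : ∀ s ∈ w, s ∈ P.S) (hn : w.Nodup) {g : K}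
    (hg : g ∈ Pr P (w.map fun s => P.parabolic {s})) : ∃ w' : List K, w'.Sublist w ∧ g ∈ C P w'.prod := by
  induction w generalizing g with
  | nil =>
    refine ⟨[], List.Sublist.refl _, ?_⟩
    rw [List.prod_nil, mem_C_one]
    exact hg
  | cons s w ih =>
    rw [List.nodup_cons] at hn
    have hs := hw s (by simp)
    have hw' : ∀ t ∈ w, t ∈ P.S := fun t ht => hw t (by simp [ht])
    obtain ⟨m, hm, h1⟩ := hg
    obtain ⟨w', h2, h3⟩ := ih hw' hn.2 h1
    rcases mem_parabolic_singleton P hs hm with h4 | ⟨b, hb, b', hb', h4⟩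
    · refine ⟨w', h2.trans (List.sublist_cons_self s w), ?_⟩
      have e : g = m * (m⁻¹ * g) := by group
      rw [e]
      exact mul_mem_C_left h4 h3
    · refine ⟨s :: w', h2.cons_cons s, ?_⟩
      rw [List.prod_cons]
      have e : g = m * (m⁻¹ * g) := by group
      rw [e]
      exact mul_mem_cons (fun t ht => hw' t (h2.subset ht)) hs (fun h => hn.1 (h2.subset h))
        (mem_C.2 ⟨b, hb, b', hb', h4⟩) h3

/-- the inverse of a word -/
theorem prod_mul_reverse {w : List K} (hw : ∀ s ∈ w, s ∈ P.S) : w.prod * w.reverse.prod ∈ P.B ⊓ P.N := by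
  induction w with
  | nil => simp [one_mem]
  | cons s w ih =>
    have hs := hw s (by simp)
    have hw' : ∀ t ∈ w, t ∈ P.S := fun t ht => hw t (by simp [ht])
    have h1 := ih hw'
    rw [List.prod_cons, List.reverse_cons, List.prod_append, List.prod_singleton]
    have e : s * w.prod * (w.reverse.prod * s) = (s * (w.prod * w.reverse.prod) * s⁻¹) * (s * s) := by group
    rw [e]
    exact mul_mem (Subgroup.mem_inf.2 ⟨conj_mem' (mem_N hs) h1.1 h1.2,
        P.N.mul_mem (P.N.mul_mem (mem_N hs) h1.2) (P.N.inv_mem (mem_N hs))⟩)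
      (Subgroup.mem_inf.2 ⟨P.sq_mem s hs, P.N.mul_mem (mem_N hs) (mem_N hs)⟩)

theorem C_inv {w : List K} (hw : ∀ s ∈ w, s ∈ P.S) {g : K} (hg : g ∈ C P w.prod) : g⁻¹ ∈ C P w.reverse.prod := by
  have h1 := inv_mem_C hg
  rwa [C_eq_of_rel (P := P) (n := w.prod⁻¹) (n' := w.reverse.prod)
    (by rw [inv_inv]; exact (prod_mul_reverse hw).1)] at h1

/-- the letters of a reduced word with the same double coset -/
theorem letters {w : List K} (hw : ∀ s ∈ w, s ∈ P.S) (hn : w.Nodup) {J : Set K} (hJ : J ⊆ P.S) {g : K}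
    (hg : g ∈ C P w.prod) (hgJ : g ∈ P.parabolic J) : ∀ s ∈ w, s ∈ J := by
  have h1 : w.prod ∈ P.parabolic J := mem_of_mem_C le_sup_left hg hgJ
  have h2 := mem_of_reduced (M := P.parabolic J) le_sup_left w hw (len_nodup hw hn).symm h1
  exact fun s hs => (mem_parabolic_gen_iff hJ (hw s hs)).1 (h2 s hs)

theorem prod_mem_parabolic {w : List K} {J : Set K} (hw : ∀ s ∈ w, s ∈ J) {g : K} (hg : g ∈ C P w.prod) :
    g ∈ P.parabolic J :=
  mem_of_mem_C' le_sup_left hg ((le_sup_right : closure J ≤ P.parabolic J)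
    (Subgroup.list_prod_mem _ fun s hs => subset_closure (hw s hs)))

/-! ### The action of an automorphism -/

section Aut

variable [Finite K] {y : MulAut K}

/-- `t` is the image of the node `s` -/
def Im (P : BNPair K) (y : MulAut K) (s t : K) : Prop :=
  t ∈ P.S ∧ (P.parabolic {s}).map y.toMonoidHom = P.parabolic {t}

theorem exists_im (hyB : ∀ b ∈ P.B, y b ∈ P.B) {s : K} (hs : s ∈ P.S) : ∃ t, Im P y s t :=
  Cfsg.Agent.Schreier.BNSch.exists_map_eq P y (map_B hyB) hs

theorem Im.unique {s t t' : K} (h : Im P y s t) (h' : Im P y s t') : t = t' := by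
  have h1 : P.parabolic {t} = P.parabolic {t'} := by rw [← h.2, ← h'.2]
  exact Set.singleton_eq_singleton_iff.1
    (Cfsg.Agent.S0314.result P (Set.singleton_subset_iff.2 h.1) (Set.singleton_subset_iff.2 h'.1) h1)

theorem Im.inj {s s' t : K} (hs : s ∈ P.S) (hs' : s' ∈ P.S) (h : Im P y s t) (h' : Im P y s' t) : s = s' := by
  have h1 : (P.parabolic {s}).map y.toMonoidHom = (P.parabolic {s'}).map y.toMonoidHom := by rw [h.2, h'.2]
  have h2 := Subgroup.map_injective y.injective h1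
  exact Set.singleton_eq_singleton_iff.1
    (Cfsg.Agent.S0314.result P (Set.singleton_subset_iff.2 hs) (Set.singleton_subset_iff.2 hs') h2)

/-- the image of `B s B` -/
theorem im_mem_C (hyB : ∀ b ∈ P.B, y b ∈ P.B) {s t : K} (hs : s ∈ P.S) (h : Im P y s t) : y s ∈ C P t := by
  have h1 : y s ∈ P.parabolic {t} := by rw [← h.2]; exact ⟨s, mem_parabolic_self P s, rfl⟩
  rcases mem_parabolic_singleton P h.1 h1 with h2 | ⟨b, hb, b', hb', h2⟩
  · exfalso
    have h3 : y s ∈ P.B.map y.toMonoidHom := by rw [map_B hyB]; exact h2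
    obtain ⟨b, hb, h4⟩ := h3
    have h5 : b = s := y.injective h4
    exact not_mem_B hs (h5 ▸ hb)
  · exact mem_C.2 ⟨b, hb, b', hb', h2⟩

theorem exists_left {α : Type*} {R : α → α → Prop} {w w' : List α} (h : List.Forall₂ R w w') {t : α} (ht : t ∈ w') :
    ∃ s ∈ w, R s t := by
  induction h with
  | nil => simp at ht
  | @cons a b l l' h1 _ ih =>
    rcases List.mem_cons.1 ht with rfl | h
    · exact ⟨a, by simp, h1⟩
    · obtain ⟨s, hs, h2⟩ := ih h
      exact ⟨s, by simp [hs], h2⟩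

/-- the image of a word with distinct letters -/
theorem map_mem_C (hyB : ∀ b ∈ P.B, y b ∈ P.B) {w w' : List K} (hw : ∀ s ∈ w, s ∈ P.S) (hn : w.Nodup)
    (h : List.Forall₂ (Im P y) w w') : y w.prod ∈ C P w'.prod := by
  induction h with
  | nil => rw [List.prod_nil, map_one]; exact self_mem_C 1
  | @cons s t w w' h1 h2 ih =>
    rw [List.nodup_cons] at hn
    have hs := hw s (by simp)
    have hw1 : ∀ t ∈ w, t ∈ P.S := fun t ht => hw t (by simp [ht])
    rw [List.prod_cons, List.prod_cons, map_mul]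
    refine mul_mem_cons (fun t' ht' => ?_) h1.1 (fun ht' => ?_) (im_mem_C hyB hs h1) (ih hw1 hn.2)
    · obtain ⟨s', -, h3⟩ := exists_left h2 ht'
      exact h3.1
    · obtain ⟨s', hs', h3⟩ := exists_left h2 ht'
      exact hn.1 ((Im.inj hs (hw1 s' hs') h1 h3) ▸ hs')

theorem map_mem_C' (hyB : ∀ b ∈ P.B, y b ∈ P.B) {w w' : List K} (hw : ∀ s ∈ w, s ∈ P.S) (hn : w.Nodup)
    (h : List.Forall₂ (Im P y) w w') {g : K} (hg : g ∈ C P w.prod) : y g ∈ C P w'.prod := by
  obtain ⟨b, hb, b', hb', rfl⟩ := mem_C.1 hg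
  rw [map_mul, map_mul]
  exact mul_mem_C_right (hyB _ hb') (mul_mem_C_left (hyB _ hb) (map_mem_C hyB hw hn h))

theorem exists_forall₂ (hyB : ∀ b ∈ P.B, y b ∈ P.B) {w : List K} (hw : ∀ s ∈ w, s ∈ P.S) :
    ∃ w', List.Forall₂ (Im P y) w w' := by
  induction w with
  | nil => exact ⟨[], List.Forall₂.nil⟩
  | cons s w ih =>
    obtain ⟨w', h⟩ := ih fun t ht => hw t (by simp [ht])
    obtain ⟨t, ht⟩ := exists_im hyB (hw s (by simp))
    exact ⟨t :: w', List.Forall₂.cons ht h⟩

end Aut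

/-! ### The reverse word -/

theorem not_rev {s t : K} {w : List K} (hw : ∀ a ∈ s :: (w ++ [t]), a ∈ P.S) (hn : (s :: (w ++ [t])).Nodup)
    (hst : s * t * s⁻¹ * t⁻¹ ∉ P.B) : C P (s :: (w ++ [t])).prod ≠ C P (s :: (w ++ [t])).reverse.prod := by
  intro h
  have hs : s ∈ P.S := hw s (by simp)
  have ht : t ∈ P.S := hw t (by simp)
  have hwS : ∀ a ∈ w, a ∈ P.S := fun a ha => hw a (by simp [ha])
  have hswS : ∀ a ∈ s :: w, a ∈ P.S := fun a ha => by
    rcases List.mem_cons.1 ha with rfl | h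
    · exact hs
    · exact hwS a h
  have hsN := mem_N (P := P) hs
  have htN := mem_N (P := P) ht
  rw [List.nodup_cons] at hn
  obtain ⟨hn1, hn2⟩ := hn
  rw [List.nodup_append] at hn2
  have hst' : s ≠ t := fun h => hn1 (by simp [h])
  have hsw : s ∉ w := fun h => hn1 (by simp [h])
  have htw : t ∉ w := fun h => hn2.2.2 t h t (by simp) rfl
  have hsw_nodup : (s :: w).Nodup := List.nodup_cons.2 ⟨hsw, hn2.1⟩
  -- `n = s w t` is in the same class as `t w⁻¹ s`
  set n := (s :: (w ++ [t])).prod with hndef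
  have hnN : n ∈ P.N := prod_mem_N hw
  have hrN : (s :: (w ++ [t])).reverse.prod ∈ P.N := prod_mem_N fun a ha => hw a (List.mem_reverse.1 ha)
  have hrel := rel_of_C_eq hnN hrN h
  have hrev : (s :: (w ++ [t])).reverse.prod = t * (w.reverse ++ [s]).prod := by
    rw [List.reverse_cons, List.reverse_append]
    simp [mul_assoc]
  have hrwS : ∀ a ∈ w.reverse ++ [s], a ∈ P.S := fun a ha => by
    rcases List.mem_append.1 ha with h | h
    · exact hwS a (List.mem_reverse.1 h)
    · rw [List.mem_singleton] at h; rwa [h]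
  have hrw_nodup : (w.reverse ++ [s]).Nodup := by
    have : (s :: w).reverse = w.reverse ++ [s] := List.reverse_cons
    rw [← this]
    exact List.nodup_reverse.2 hsw_nodup
  have hlen : len P n = w.length + 2 := by
    rw [hndef, len_nodup hw (List.nodup_cons.2 ⟨hn1, List.nodup_append.2 hn2⟩)]
    simp
  -- `t` is a left descent
  have h1 : len P (t * n) ≤ w.length + 1 := by
    have e1 : (t * n)⁻¹ * (t * (s :: (w ++ [t])).reverse.prod) ∈ P.B := rel_mul_left t hrel
    have e2 : (t * (s :: (w ++ [t])).reverse.prod)⁻¹ * (w.reverse ++ [s]).prod ∈ P.B := by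
      rw [hrev]
      exact rel_sq_mul ht (prod_mem_N hrwS)
    rw [len_congr (rel_trans e1 e2), len_nodup hrwS hrw_nodup]
    simp
  -- exchange
  obtain ⟨l₁, a, l₂, h2, h3⟩ := exchange ht (s :: (w ++ [t])) hw (by
    show len P (t * n) ≤ len P n
    omega)
  have hat : a = t ∧ l₁ = s :: w := by
    have hl₁ : ∀ b ∈ l₁, b ∈ s :: (w ++ [t]) := fun b hb => by rw [h2]; exact List.mem_append_left _ hb
    have ha : a ∈ s :: (w ++ [t]) := by rw [h2]; simp
    have hnd : (l₁ ++ a :: l₂).Nodup := by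
      rw [← h2]
      exact List.nodup_cons.2 ⟨hn1, List.nodup_append.2 hn2⟩
    -- `t ∈ l₁ ∪ {a}`
    have hmem : t ∈ {b | b ∈ l₁ ∨ b = a} := by
      apply mem_of_mem_closure_sup (P := P) (J := {b | b ∈ l₁ ∨ b = a}) ?_ ht ?_
      · rintro b (hb | rfl)
        · exact hw b (hl₁ b hb)
        · exact hw b ha
      · have e1 : l₁.prod ∈ closure {b | b ∈ l₁ ∨ b = a} ⊔ (P.B ⊓ P.N) := prod_mem_sup fun b hb => Or.inl hb
        have e2 : a ∈ closure {b | b ∈ l₁ ∨ b = a} ⊔ (P.B ⊓ P.N) := mem_sup_left (subset_closure (Or.inr rfl))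
        have hl₁N := prod_mem_N (P := P) fun b hb => hw b (hl₁ b hb)
        have e3 : (t * l₁.prod)⁻¹ * (l₁.prod * a) ∈ closure {b | b ∈ l₁ ∨ b = a} ⊔ (P.B ⊓ P.N) :=
          mem_sup_right (mem_BN h3 (mul_mem htN hl₁N) (mul_mem hl₁N (mem_N (hw a ha))))
        have e : t = (l₁.prod * a) * ((t * l₁.prod)⁻¹ * (l₁.prod * a))⁻¹ * l₁.prod⁻¹ := by group
        rw [e]
        exact mul_mem (mul_mem (mul_mem e1 e2) (inv_mem e3)) (inv_mem e1)
    -- `t` is the last letter
    have e4 : l₁ ++ a :: l₂ = (s :: w) ++ [t] := by rw [← h2]; rfl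
    rcases List.eq_nil_or_concat l₂ with hl₂ | ⟨l₃, c, hl₂⟩
    · rw [hl₂] at e4
      obtain ⟨e5, e6⟩ := List.append_inj' e4 rfl
      exact ⟨by simpa using e6, e5⟩
    · exfalso
      rw [List.concat_eq_append] at hl₂
      rw [hl₂] at e4 hnd
      have e5 : l₁ ++ a :: (l₃ ++ [c]) = (l₁ ++ a :: l₃) ++ [c] := by simp
      rw [e5] at e4 hnd
      obtain ⟨-, e7⟩ := List.append_inj' e4 rfl
      have hct : c = t := by simpa using e7
      rw [List.nodup_append] at hnd
      rcases hmem with h4 | h4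
      · exact hnd.2.2 t (by simp [h4]) c (by simp) hct.symm
      · exact hnd.2.2 a (by simp) c (by simp) (by rw [hct]; exact h4.symm)
  obtain ⟨rfl, rfl⟩ := hat
  -- `s` is a left descent of `a s w`
  have hasw : ∀ b ∈ a :: s :: w, b ∈ P.S := fun b hb => by
    rcases List.mem_cons.1 hb with rfl | h
    · exact ht
    · exact hswS b h
  have hrel2 : (a * (s :: w).prod)⁻¹ * n ∈ P.B := by
    have e : n = (s :: w).prod * a := by
      rw [hndef]
      simp [mul_assoc]
    rw [e]
    exact h3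
  have h4 : len P (s * (a :: s :: w).prod) ≤ w.length + 1 := by
    have e1 : (s * (a :: s :: w).prod)⁻¹ * (s * n) ∈ P.B := rel_mul_left s hrel2
    have hwt : ∀ b ∈ w ++ [a], b ∈ P.S := fun b hb => by
      rcases List.mem_append.1 hb with h | h
      · exact hwS b h
      · rw [List.mem_singleton] at h; rwa [h]
    have e2 : (s * n)⁻¹ * (w ++ [a]).prod ∈ P.B := by
      have : n = s * (w ++ [a]).prod := by rw [hndef, List.prod_cons]
      rw [this]
      exact rel_sq_mul hs (prod_mem_N hwt)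
    rw [len_congr (rel_trans e1 e2)]
    refine (len_prod_le hwt).trans ?_
    simp
  have hnd2 : (a :: s :: w).Nodup := by
    rw [List.nodup_cons]
    refine ⟨fun h => ?_, hsw_nodup⟩
    rcases List.mem_cons.1 h with h5 | h5
    · exact hst' h5.symm
    · exact htw h5
  obtain ⟨l₃, c, l₄, h5, h6⟩ := exchange hs (a :: s :: w) hasw (by
    rw [len_nodup hasw hnd2, List.length_cons, List.length_cons]
    omega)
  rcases l₃ with _ | ⟨a', l₃⟩
  · -- `s = a`
    rw [List.nil_append, List.cons.injEq] at h5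
    rw [List.prod_nil, mul_one, one_mul, ← h5.1] at h6
    exact hst' (P.inj s hs a ht h6)
  rw [List.cons_append, List.cons.injEq] at h5
  obtain ⟨rfl, h5⟩ := h5
  rcases l₃ with _ | ⟨s', l₃⟩
  · -- `s a = a s`
    rw [List.nil_append, List.cons.injEq] at h5
    rw [List.prod_singleton, ← h5.1] at h6
    apply hst
    -- `(s a)⁻¹ (a s) ∈ B`
    have h7 : (s * a) * ((s * a)⁻¹ * (a * s)) * (s * a)⁻¹ ∈ P.B :=
      conj_mem' (mul_mem hsN htN) h6 (mul_mem (inv_mem (mul_mem hsN htN)) (mul_mem htN hsN))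
    have e : s * a * s⁻¹ * a⁻¹ = ((s * a) * ((s * a)⁻¹ * (a * s)) * (s * a)⁻¹)⁻¹ := by group
    rw [e]
    exact inv_mem h7
  · rw [List.cons_append, List.cons.injEq] at h5
    obtain ⟨rfl, h5⟩ := h5
    -- `c ∈ ⟨a, s, l₃⟩`
    have hl₃ : ∀ b ∈ l₃, b ∈ w := fun b hb => by rw [h5]; exact List.mem_append_left _ hb
    have hcw : c ∈ w := by rw [h5]; simp
    have hJS : {b | b = a ∨ b = s ∨ b ∈ l₃} ⊆ P.S := by
      rintro b (rfl | rfl | hb)
      · exact ht
      · exact hs
      · exact hwS b (hl₃ b hb)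
    have hl : (a :: s :: l₃).prod ∈ closure {b | b = a ∨ b = s ∨ b ∈ l₃} ⊔ (P.B ⊓ P.N) :=
      prod_mem_sup fun b hb => by simpa using hb
    have hlN : (a :: s :: l₃).prod ∈ P.N := prod_mem_N fun b hb => hJS (by simpa using hb)
    have e3 : (s * (a :: s :: l₃).prod)⁻¹ * ((a :: s :: l₃).prod * c) ∈
        closure {b | b = a ∨ b = s ∨ b ∈ l₃} ⊔ (P.B ⊓ P.N) :=
      mem_sup_right (mem_BN h6 (mul_mem hsN hlN) (mul_mem hlN (mem_N (hwS c hcw))))
    have hcmem : c ∈ {b | b = a ∨ b = s ∨ b ∈ l₃} := by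
      apply mem_of_mem_closure_sup hJS (hwS c hcw)
      have e : c = (a :: s :: l₃).prod⁻¹ * (s * (a :: s :: l₃).prod) *
          ((s * (a :: s :: l₃).prod)⁻¹ * ((a :: s :: l₃).prod * c)) := by group
      rw [e]
      exact mul_mem (mul_mem (inv_mem hl) (mul_mem (mem_sup_left (subset_closure (Or.inr (Or.inl rfl)))) hl)) e3
    rcases hcmem with h7 | h7 | h7
    · exact htw (h7 ▸ hcw)
    · exact hsw (h7 ▸ hcw)
    · have hwn := hn2.1
      rw [h5, List.nodup_append] at hwn
      exact hwn.2.2 c h7 c (by simp) rfl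

end Cfsg.Agent.H483.Rad23.Word
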