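import Mathlib
import Cfsg.Agent.H483.Rad23.Near

/-!
# Radical automorphisms of order two of groups with a (B, N)-pair (helper483, S3832)

* `exists_borel2` : a radical automorphism of order two fixes a conjugate of `B`;
* `rig2` : it fixes the minimal parabolic subgroups (rank at least three);
* `main3` : there is none in rank at least three;
* `main2` : in rank two, with non-solvable nodes, it fixes a Borel subgroup and swaps its overgroups.
-/

set_option autoImplicit false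
set_option linter.unusedSectionVars false

namespace Cfsg.Agent.H483.Rad23.Main

open Cfsg Subgroup Cfsg.Agent.LieExceptional.BNPairCore Cfsg.Agent.H483.Rad23.Trace Cfsg.Agent.H483.Rad23.Word
open Cfsg.Agent.H483.Rad23.Near
open Cfsg.Agent.SignalizersComponents.ComponentExists Cfsg.Agent.H459.Rad Cfsg.Agent.H459.Gallery
open Cfsg.Agent.H459.NonEll (Irr index_node parabolic_ne_top iv_parabolic radIn_sup iv_of_sub closure_le_parabolic)
open Cfsg.Agent.Schreier.BNSch

variable {K : Type*} [Group K] [Finite K] (P : BNPair K)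

/-- no set `J` of solvable nodes whose complement consists of one or two nodes adjacent to all nodes of `J` -/
def StarOK : Prop :=
  ∀ J ⊆ P.S, J.Nonempty → (∀ s ∈ J, Group.IsSolvable (P.parabolic {s})) →
    (∀ s ∈ J, ∀ s' ∈ J, s ≠ s' → s * s' * s⁻¹ * s'⁻¹ ∈ P.B) →
    ∀ t ∈ P.S, ∀ t' ∈ P.S, t ∉ J → t' ∉ J → (∀ s ∈ J, s * t * s⁻¹ * t⁻¹ ∉ P.B) →
    (∀ s ∈ J, s * t' * s⁻¹ * t'⁻¹ ∉ P.B) → P.B.relIndex (P.parabolic {t}) = P.B.relIndex (P.parabolic {t'}) →
    insert t (insert t' J) = P.S → False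

/-- no flip of the diagram with solvable moved nodes -/
def FlipOK : Prop :=
  ∀ s ∈ P.S, ∀ s' ∈ P.S, s ≠ s' → s * s' * s⁻¹ * s'⁻¹ ∈ P.B → Group.IsSolvable (P.parabolic {s}) →
    Group.IsSolvable (P.parabolic {s'}) → P.B.relIndex (P.parabolic {s}) = P.B.relIndex (P.parabolic {s'}) →
    ∀ t ∈ P.S, ∀ t' ∈ P.S, s * t * s⁻¹ * t⁻¹ ∉ P.B → s' * t' * s'⁻¹ * t'⁻¹ ∉ P.B →
      (t = t' ∨ (t ≠ t' ∧ t * t' * t⁻¹ * t'⁻¹ ∈ P.B ∧ s * t' * s⁻¹ * t'⁻¹ ∉ P.B ∧ s' * t * s'⁻¹ * t⁻¹ ∉ P.B)) →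
      ({s, s', t, t'} : Set K) = P.S → False

variable {P}

theorem comm_symm {s t : K} : s * t * s⁻¹ * t⁻¹ ∈ P.B ↔ t * s * t⁻¹ * s⁻¹ ∈ P.B := by
  have e : s * t * s⁻¹ * t⁻¹ = (t * s * t⁻¹ * s⁻¹)⁻¹ := by group
  rw [e, inv_mem_iff]

theorem im_relIndex {y : MulAut K} (hyB : Iv y P.B) {s t : K} (h : Im P y s t) :
    P.B.relIndex (P.parabolic {s}) = P.B.relIndex (P.parabolic {t}) := by
  have h1 : (P.B.map y.toMonoidHom).relIndex ((P.parabolic {s}).map y.toMonoidHom) =
      P.B.relIndex (P.parabolic {s}) := Subgroup.relIndex_map_map_of_injective _ _ y.injective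
  rw [← h1, hyB.map_eq, h.2]

theorem im_solvable {y : MulAut K} {s t : K} (h : Im P y s t) (hs : Group.IsSolvable (P.parabolic {s})) :
    Group.IsSolvable (P.parabolic {t}) := by
  rw [← h.2]
  exact isSolvable_map hs _

/-- an automorphism fixing `B` and stabilising the set `L` of nodes fixes `P_L` -/
theorem iv_of_stable {y : MulAut K} (hyB : Iv y P.B) {L : Set K} (_ : L ⊆ P.S)
    (h : ∀ s ∈ L, ∃ t ∈ L, Im P y s t) : Iv y (P.parabolic L) := by
  have h1 : P.parabolic L ≤ (P.parabolic L).comap y.toMonoidHom := by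
    refine sup_le ?_ ?_
    · intro b hb
      exact B_le_parabolic P _ (hyB b hb)
    · rw [closure_le]
      intro s hs
      obtain ⟨t, ht, h2⟩ := h s hs
      have h3 : y s ∈ P.parabolic {t} := by rw [← h2.2]; exact ⟨s, mem_parabolic_self P s, rfl⟩
      exact parabolic_mono P (Set.singleton_subset_iff.2 ht) h3
  exact h1

theorem exists_im' {y : MulAut K} (hyB : Iv y P.B) {s : K} (hs : s ∈ P.S) : ∃ t, Im P y s t := exists_im hyB hs

theorem cx_sq {x : MulAut K} (hx : x ^ 2 = 1) (g : K) : (cx x g) ^ 2 = 1 := by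
  have e : cx x g = (MulAut.conj g)⁻¹ * x * ((MulAut.conj g)⁻¹)⁻¹ := by rw [inv_inv]; rfl
  rw [e, conj_pow, hx, mul_one, mul_inv_cancel]

/-- **A radical involution fixes a conjugate of `B`** (odd characteristic). -/
theorem exists_borel_odd {r : ℕ} [Fact r.Prime] (U : Sylow r K) (hU : normalizer ((U : Subgroup K) : Set K) = P.B)
    (hcov : ∀ b ∈ P.B, ∃ u ∈ (U : Subgroup K), u⁻¹ * b ∈ P.N) (hc : center K = ⊥) (hirr : Irr P)
    (h2S : 2 ≤ P.S.ncard) (hBs : Group.IsSolvable P.B) (hstar : StarOK P) {x : MulAut K} (h : RC x)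
    (hx : x ^ 2 = 1) : ∃ g, Iv (cx x g) P.B := by
  classical
  have hfin : Finite K := inferInstance
  obtain ⟨y, J₀, g₀, v₀, b, hyB, hb, hb2, hJ₀, hJ₀ne, hfix₀, hg₀, hv₀⟩ := near U hU hcov hc hirr h2S hx
  -- `x` is conjugate to `conj k * y`
  have hk : ∀ g, ∃ k, cx x g = MulAut.conj k * y := by
    intro g
    refine ⟨g⁻¹ * (g₀ * v₀) * y g₀⁻¹ * y g, ?_⟩
    have h1 : x = cx (cx x g₀) g₀⁻¹ := by
      rw [cx_cx, mul_inv_cancel]
      ext k
      rw [cx_apply]
      simp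
    have h2 : ∀ k, x k = (g₀ * v₀) * y (g₀⁻¹ * k * g₀) * (g₀ * v₀)⁻¹ := by
      intro k
      rw [h1, cx_apply, hg₀, MulAut.mul_apply, MulAut.conj_apply]
      simp only [inv_inv]
      group
    ext k
    rw [cx_apply, h2, MulAut.mul_apply, MulAut.conj_apply]
    simp only [map_mul, map_inv]
    group
  obtain ⟨J, hJ⟩ := Set.exists_min_image {J : Set K | J ⊆ P.S ∧ J ≠ P.S ∧ (∀ s ∈ J, Im P y s s) ∧
    ∃ g, Iv (cx x g) (P.parabolic J)} Set.ncard (Set.toFinite _) ⟨J₀, hJ₀, hJ₀ne, hfix₀, g₀, by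
      rw [hg₀]
      exact iv_conj_mul hv₀ (iv_of_stable hyB hJ₀ fun s hs => ⟨s, hs, hfix₀ s hs⟩)⟩
  obtain ⟨⟨hJS, hJne, hfix, g, hg⟩, hmin⟩ := hJ
  by_cases hJ0 : J = ∅
  · rw [hJ0, parabolic_empty] at hg
    exact ⟨g, hg⟩
  exfalso
  have hJn : J.Nonempty := Set.nonempty_iff_ne_empty.2 hJ0
  set z := cx x g with hz
  have hzR : RC z := h.cx g
  set M := P.parabolic J with hM
  have hBM : P.B ≤ M := B_le_parabolic P _
  have hMt : M ≠ ⊤ := parabolic_ne_top P hJS hJne
  -- `M` is solvable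
  have hMsol : Group.IsSolvable M := by
    obtain ⟨L, hLJ, hLe, hLsol, -⟩ := radIn_sup P hBs hJS
    have h1 : Iv z (P.parabolic L) := iv_of_sub P hzR hMt hLJ hg (by rw [← hLe]; exact le_sup_left)
    have h2 := hmin L ⟨hLJ.trans hJS, fun h => hJne (Set.Subset.antisymm hJS (h ▸ hLJ)), fun s hs => hfix s (hLJ hs),
      g, h1⟩
    have h3 : L = J := Set.eq_of_subset_of_ncard_le hLJ h2 (Set.toFinite _)
    rwa [h3] at hLsol
  have hcommJ : ∀ s ∈ J, ∀ t ∈ J, s ≠ t → s * t * s⁻¹ * t⁻¹ ∈ P.B := by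
    intro s hs t ht hst
    refine comm_of_solvable P (hJS hs) (hJS ht) hst (isSolvable_of_le (parabolic_mono P ?_) hMsol)
    rintro y (rfl | rfl)
    · exact hs
    · exact ht
  -- `z` is `conj k * y`, `k ∈ M`
  obtain ⟨k, hk1⟩ := hk g
  rw [← hz] at hk1
  have hkM : k ∈ M := by
    -- `k` normalises `M`
    have hyM : Iv y M := iv_of_stable hyB hJS fun s hs => ⟨s, hs, hfix s hs⟩
    have h1 : k ∈ normalizer (M : Set K) := by
      rw [Subgroup.mem_normalizer_iff_map_conj_eq]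
      refine Subgroup.eq_of_le_of_card_ge ?_ (le_of_eq (Subgroup.card_map_of_injective
        (K := M) (MulAut.conj k).injective).symm)
      rintro _ ⟨a, ha, rfl⟩
      have h2 := hyM.map_eq
      rw [← h2] at ha
      obtain ⟨c, hc', rfl⟩ := ha
      have h3 := hg c hc'
      rw [hk1] at h3
      exact h3
    rwa [hM, Cfsg.Agent.S0312.result P hJS] at h1
  have hzL : ∀ L, J ⊆ L → L ⊆ P.S → (∀ s ∈ L, ∃ t ∈ L, Im P y s t) → Iv z (P.parabolic L) := by
    intro L hJL hL hst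
    rw [hk1]
    exact iv_conj_mul (parabolic_mono P hJL hkM) (iv_of_stable hyB hL hst)
  -- a neighbour
  obtain ⟨s, hsJ, t, htS, htJ, hst⟩ := hirr J hJS hJn hJne
  have hsS := hJS hsJ
  have hne' : s ≠ t := fun h => htJ (h ▸ hsJ)
  obtain ⟨t', ht'⟩ := exists_im' hyB htS
  have ht'S := ht'.1
  have ht'' : Im P y t' t := Im.symm hb hb2 htS ht'
  have hst' : s * t' * s⁻¹ * t'⁻¹ ∉ P.B := fun h1 => hst (Im.comm hyB hsS ht'S (hfix s hsJ) ht'' h1)
  have ht'J : t' ∉ J := fun h1 => htJ (by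
    have h2 := Im.unique (hfix t' h1) ht''
    rwa [← h2])
  have hne'' : s ≠ t' := fun h => ht'J (h ▸ hsJ)
  set L := insert t (insert t' J) with hL
  have hLS : L ⊆ P.S := Set.insert_subset htS (Set.insert_subset ht'S hJS)
  have hJL : J ⊆ L := (Set.subset_insert _ _).trans (Set.subset_insert _ _)
  have hLst : ∀ s ∈ L, ∃ t ∈ L, Im P y s t := by
    rintro u (rfl | rfl | hu)
    · exact ⟨t', Set.mem_insert_of_mem _ (Set.mem_insert _ _), ht'⟩
    · exact ⟨t, Set.mem_insert _ _, ht''⟩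
    · exact ⟨u, hJL hu, hfix u hu⟩
  by_cases hLe : L = P.S
  · -- all nodes of `J` are adjacent to `t` and `t'`
    have hadj : ∀ u ∈ J, u * t * u⁻¹ * t⁻¹ ∉ P.B ∧ u * t' * u⁻¹ * t'⁻¹ ∉ P.B := by
      intro u hu
      have hiff : u * t * u⁻¹ * t⁻¹ ∈ P.B ↔ u * t' * u⁻¹ * t'⁻¹ ∈ P.B :=
        ⟨fun h1 => Im.comm hyB (hJS hu) htS (hfix u hu) ht' h1,
          fun h1 => Im.comm hyB (hJS hu) ht'S (hfix u hu) ht'' h1⟩
      by_contra hcon
      have hc1 : u * t * u⁻¹ * t⁻¹ ∈ P.B := by tauto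
      have hc2 := hiff.1 hc1
      obtain ⟨u', hu', v, hvS, hv, huv⟩ := hirr {u} (Set.singleton_subset_iff.2 (hJS hu)) (Set.singleton_nonempty u)
        (fun h => by
          have h1 : t ∈ ({u} : Set K) := by rw [h]; exact htS
          exact htJ ((Set.mem_singleton_iff.1 h1) ▸ hu))
      rw [Set.mem_singleton_iff] at hu' hv
      subst hu'
      have h1 : v ∈ L := by rw [hLe]; exact hvS
      rcases h1 with rfl | rfl | h1
      · exact huv hc1
      · exact huv hc2
      · exact huv (hcommJ u' hu v h1 fun h => hv h.symm)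
    exact hstar J hJS hJn (fun s hs => isSolvable_of_le (parabolic_mono P (Set.singleton_subset_iff.2 hs)) hMsol)
      hcommJ t htS t' ht'S htJ ht'J (fun s hs => (hadj s hs).1) (fun s hs => (hadj s hs).2) (im_relIndex hyB ht') hLe
  · -- a larger proper parabolic subgroup
    obtain ⟨L', hL', hLe', -, hc⟩ := radIn_sup P hBs hLS
    have hsL : s ∉ L' := fun h1 => hst (hc s h1 t (Set.mem_insert _ _) hne')
    have htL : t ∉ L' := fun h1 => by
      have h2 := hc t h1 s (hJL hsJ) hne'.symm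
      exact hst (comm_symm.1 h2)
    have ht'L : t' ∉ L' := fun h1 => by
      have h2 := hc t' h1 s (hJL hsJ) hne''.symm
      exact hst' (comm_symm.1 h2)
    have hL'J : L' ⊆ J \ {s} := by
      intro u hu
      refine ⟨?_, fun h => hsL ?_⟩
      · rcases hL' hu with rfl | rfl | h
        · exact absurd hu htL
        · exact absurd hu ht'L
        · exact h
      · rw [Set.mem_singleton_iff] at h
        rwa [← h]
    have h1 : Iv z (P.parabolic L') := iv_of_sub P hzR (parabolic_ne_top P hLS hLe) hL'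
      (hzL L hJL hLS hLst) (by rw [← hLe']; exact le_sup_left)
    have h2 := hmin L' ⟨hL'.trans hLS, fun h => hJne (Set.Subset.antisymm hJS (by
      rw [← h]; exact hL'J.trans Set.sdiff_subset)), fun u hu => hfix u (hL'J hu).1, g, h1⟩
    have h3 : (J \ {s}).ncard < J.ncard := Set.ncard_sdiff_singleton_lt_of_mem hsJ (Set.toFinite _)
    have h4 := Set.ncard_le_ncard hL'J (Set.toFinite _)
    omega

/-- **Rank at least three: no flips.** -/
theorem rig2 (hirr : Irr P) (h3S : 3 ≤ P.S.ncard) (hBs : Group.IsSolvable P.B) (hflip : FlipOK P) {z : MulAut K}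
    (h : RC z) (hz : z ^ 2 = 1) (hzB : Iv z P.B) : ∀ s ∈ P.S, Iv z (P.parabolic {s}) := by
  classical
  have hfin : Finite K := inferInstance
  have hz1 : z ^ 2 = MulAut.conj (1 : K) := by rw [hz, map_one]
  -- the main step
  have key : ∀ L, L ⊆ P.S → L ≠ P.S → (∀ s ∈ L, ∃ t ∈ L, Im P z s t) → ∀ s ∈ L, ∀ s', Im P z s s' → s ≠ s' →
      Group.IsSolvable (P.parabolic {s}) ∧ ∀ t ∈ L, s ≠ t → s * t * s⁻¹ * t⁻¹ ∈ P.B := by
    intro L hL hLne hst s hs s' hs' hne
    obtain ⟨L', hL', hLe', hsol, hc⟩ := radIn_sup P hBs hL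
    have hzL := iv_of_stable hzB hL hst
    have hLt := parabolic_ne_top P hL hLne
    have hrad : radIn (P.parabolic L) ≤ P.parabolic L' := by rw [← hLe']; exact le_sup_left
    have hsL : s ∈ L' := by
      -- `z` fixes `P_{L' ∪ {s}}` and `P_{L' ∪ {s'}}`
      have h1 : Iv z (P.parabolic (insert s L')) := iv_of_sub P h hLt (Set.insert_subset hs hL') hzL
        (hrad.trans (parabolic_mono P (Set.subset_insert _ _)))
      have h2 : z s ∈ P.parabolic (insert s L') := h1 s (closure_le_parabolic P _ (Set.mem_insert _ _))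
      have h3 : s' ∈ P.parabolic (insert s L') := by
        refine mem_of_mem_C' (P := P) ?_ (n := z s) ?_ h2
        · exact B_le_parabolic P _
        · have h4 := im_mem_C hzB (hL hs) hs'
          rw [C_eq_of_mem h4]
          exact self_mem_C _
      have h4 : s' ∈ insert s L' := (mem_parabolic_gen_iff (Set.insert_subset (hL hs) (hL'.trans hL)) hs'.1).1 h3
      have h5 : s' ∈ L' := h4.resolve_left (Ne.symm hne)
      -- `P_{L'}` is fixed by `z`
      have h6 : Iv z (P.parabolic L') := iv_of_sub P h hLt hL' hzL hrad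
      have h7 : z s' ∈ P.parabolic L' := h6 s' (closure_le_parabolic P _ h5)
      have h8 : Im P z s' s := Im.symm (P.B.one_mem) hz1 (hL hs) hs'
      have h9 : s ∈ P.parabolic L' := by
        refine mem_of_mem_C' (P := P) ?_ (n := z s') ?_ h7
        · exact B_le_parabolic P _
        · have h4 := im_mem_C hzB hs'.1 h8
          rw [C_eq_of_mem h4]
          exact self_mem_C _
      exact (mem_parabolic_gen_iff (hL'.trans hL) (hL hs)).1 h9
    exact ⟨isSolvable_of_le (parabolic_mono P (Set.singleton_subset_iff.2 hsL)) hsol,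
      fun t ht hst => hc s hsL t ht hst⟩
  intro s hs
  obtain ⟨s', hs'⟩ := exists_im' hzB hs
  by_cases hne : s = s'
  · subst hne
    exact Im.iv hzB hs'
  exfalso
  have hs'' : Im P z s' s := Im.symm (P.B.one_mem) hz1 hs hs'
  have hpair : ∀ {a a' : K}, Im P z a a' → Im P z a' a → ∀ u ∈ ({a, a'} : Set K), ∃ t ∈ ({a, a'} : Set K), Im P z u t := by
    rintro a a' h1 h2 u (rfl | rfl)
    · exact ⟨a', Or.inr rfl, h1⟩
    · exact ⟨a, Or.inl rfl, h2⟩
  have hpS : ∀ {a a' : K}, a ∈ P.S → a' ∈ P.S → ({a, a'} : Set K) ⊆ P.S := by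
    rintro a a' h1 h2 u (rfl | rfl)
    · exact h1
    · exact h2
  have hpne : ∀ {a a' : K}, ({a, a'} : Set K) ≠ P.S := by
    intro a a' he
    have h1 := Set.ncard_insert_le a {a'}
    rw [Set.ncard_singleton] at h1
    rw [he] at h1
    omega
  obtain ⟨hsol, hcomm⟩ := key {s, s'} (hpS hs hs'.1) hpne (hpair hs' hs'') s (Or.inl rfl) s' hs' hne
  have hss' := hcomm s' (Or.inr rfl) hne
  obtain ⟨s₁, h1, t, htS, hts, hst⟩ := hirr {s} (Set.singleton_subset_iff.2 hs) (Set.singleton_nonempty s) (fun h => by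
    rw [← h, Set.ncard_singleton] at h3S
    omega)
  rw [Set.mem_singleton_iff] at h1 hts
  subst h1
  obtain ⟨t', ht'⟩ := exists_im' hzB htS
  have ht'' : Im P z t' t := Im.symm (P.B.one_mem) hz1 htS ht'
  have hs't' : s' * t' * s'⁻¹ * t'⁻¹ ∉ P.B := fun h1 => hst (Im.comm hzB hs'.1 ht'.1 hs'' ht'' h1)
  have hL4S : ({s₁, s', t, t'} : Set K) ⊆ P.S := by
    rintro u (rfl | rfl | rfl | rfl)
    · exact hs
    · exact hs'.1
    · exact htS
    · exact ht'.1
  have hL4 : ({s₁, s', t, t'} : Set K) = P.S := by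
    by_contra hne4
    obtain ⟨-, h1⟩ := key {s₁, s', t, t'} hL4S hne4 (by
      rintro u (rfl | rfl | rfl | rfl)
      · exact ⟨s', by simp, hs'⟩
      · exact ⟨s₁, by simp, hs''⟩
      · exact ⟨t', by simp, ht'⟩
      · exact ⟨t, by simp, ht''⟩) s₁ (by simp) s' hs' hne
    exact hst (h1 t (by simp) (Ne.symm hts))
  refine hflip s₁ hs s' hs'.1 hne hss' hsol (im_solvable hs' hsol) (im_relIndex hzB hs') t htS t' ht'.1 hst hs't' ?_ hL4
  by_cases htt : t = t'
  · exact Or.inl htt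
  · right
    obtain ⟨-, h1⟩ := key {t, t'} (hpS htS ht'.1) hpne (hpair ht' ht'') t (Or.inl rfl) t' ht' htt
    have htt' := h1 t' (Or.inr rfl) htt
    -- an edge between `{s, t}` and `{s', t'}`
    have hne1 : s' ≠ t := fun h => hst (h ▸ hss')
    have hne2 : s₁ ≠ t' := by
      rintro rfl
      exact hs't' (comm_symm.1 hss')
    have hne3 : s' ≠ t' := by
      rintro rfl
      exact hs't' (by simp [one_mem])
    have h4 : s₁ * t' * s₁⁻¹ * t'⁻¹ ∉ P.B := by
      intro hc1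
      have hc2 : s' * t * s'⁻¹ * t⁻¹ ∈ P.B := Im.comm hzB hs ht'.1 hs' ht'' hc1
      obtain ⟨a, ha, b, hbS, hb, hab⟩ := hirr {s₁, t} (hpS hs htS) ⟨s₁, Or.inl rfl⟩ hpne
      rw [← hL4] at hbS
      have hb' : b = s' ∨ b = t' := by
        rcases hbS with rfl | rfl | rfl | rfl
        · exact absurd (Or.inl rfl) hb
        · exact Or.inl rfl
        · exact absurd (Or.inr rfl) hb
        · exact Or.inr rfl
      rcases ha with rfl | rfl
      · rcases hb' with rfl | rfl
        · exact hab hss'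
        · exact hab hc1
      · rcases hb' with rfl | rfl
        · exact hab (comm_symm.1 hc2)
        · exact hab htt'
    exact ⟨htt, htt', h4, fun h1 => h4 (Im.comm hzB hs'.1 htS hs'' ht' h1)⟩

/-- the gallery argument -/
theorem eq_one_of_fixed {x : MulAut K} (hcore : P.B.normalCore = ⊥) (h : RC x) (hBs : Group.IsSolvable P.B)
    (h2S : 2 ≤ P.S.ncard) (hirr : Irr P)
    (hrig : ∀ g : K, Iv (cx x g) P.B → ∀ s ∈ P.S, Iv (cx x g) (P.parabolic {s}))
    (hnode : P.S.ncard = 2 → ∀ s ∈ P.S, ¬ Group.IsSolvable (P.parabolic {s})) {g : K} (hg : Iv (cx x g) P.B) :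
    x = 1 := by
  classical
  have hfin : Finite K := inferInstance
  have hne : ∀ s ∈ P.S, ({s} : Set K) ≠ P.S := by
    intro s hs he
    rw [← he, Set.ncard_singleton] at h2S
    omega
  have hnode : ∀ g : K, Iv (cx x g) P.B → ∀ s ∈ P.S, Group.IsSolvable (P.parabolic {s}) →
      ∀ k ∈ P.parabolic {s}, k⁻¹ * cx x g k ∈ P.B := by
    intro g hgB s hs hsol
    have hyM := hrig g hgB s hs
    rcases h2S.eq_or_lt with h3 | h3
    · exact absurd hsol (hnode h3.symm s hs)
    · -- a neighbour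
      obtain ⟨s', hs', t, htS, ht, hst⟩ := hirr {s} (Set.singleton_subset_iff.2 hs) (Set.singleton_nonempty s) (hne s hs)
      rw [Set.mem_singleton_iff] at hs' ht
      subst hs'
      have hLS : ({s', t} : Set K) ⊆ P.S := by
        rintro u (rfl | rfl)
        · exact hs
        · exact htS
      have hLne : ({s', t} : Set K) ≠ P.S := by
        intro he
        rw [← he, Set.ncard_pair (Ne.symm ht)] at h3
        omega
      obtain ⟨L', hL', hLe', -, hc⟩ := radIn_sup P hBs hLS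
      have hsL : s' ∉ L' := fun h1 => hst (hc s' h1 t (Or.inr rfl) (Ne.symm ht))
      have htL : t ∉ L' := fun h1 => hst (comm_symm.1 (hc t h1 s' (Or.inl rfl) ht))
      have hL0 : L' = ∅ := by
        rw [Set.eq_empty_iff_forall_notMem]
        intro u hu
        rcases hL' hu with rfl | rfl
        · exact hsL hu
        · exact htL hu
      rw [hL0, parabolic_empty] at hLe'
      intro k hk
      have h4 := (h.cx g) _ (parabolic_ne_top P hLS hLne) (iv_parabolic P hgB (hrig g hgB) hLS) k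
        (parabolic_mono P (Set.singleton_subset_iff.2 (Or.inl rfl)) hk)
      rw [← hLe']
      exact mem_sup_left h4
  have hall := all_fixed P (h.cx g) hBs (fun s hs => parabolic_ne_top P (Set.singleton_subset_iff.2 hs) (hne s hs))
    (fun g' hg' => by rw [cx_cx] at hg' ⊢; exact hrig _ hg')
    (fun g' hg' => by rw [cx_cx] at hg' ⊢; exact hnode _ hg') hg
  have h1 := eq_one P hcore hall
  have h3 : x = MulAut.conj g * cx x g * (MulAut.conj g)⁻¹ := by
    unfold cx
    group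
  rw [h3, h1, mul_one, mul_inv_cancel]

/-- an automorphism of order two fixes a Sylow `2`-subgroup -/
theorem exists_sylow_fix {x : MulAut K} (hx : x ^ 2 = 1) : ∃ Q : Sylow 2 K, Iv x (Q : Subgroup K) := by
  classical
  have hp : IsPGroup 2 (zpowers x) := by
    rintro ⟨_, n, rfl⟩
    refine ⟨1, Subtype.ext ?_⟩
    show (x ^ n) ^ 2 ^ 1 = 1
    rw [pow_one, ← zpow_natCast, ← zpow_mul, mul_comm, zpow_mul, zpow_natCast, hx, one_zpow]
  have h1 := hp.card_modEq_card_fixedPoints (Sylow 2 K)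
  have h2 := card_sylow_modEq_one 2 K
  have h3 : Nat.card (MulAction.fixedPoints (zpowers x) (Sylow 2 K)) ≠ 0 := by
    intro h0
    rw [h0] at h1
    have h4 := h1.symm.trans h2
    norm_num [Nat.ModEq] at h4
  obtain ⟨⟨Q, hQ⟩⟩ := (Nat.card_ne_zero.1 h3).1
  refine ⟨Q, fun a ha => ?_⟩
  have h4 := hQ ⟨x, mem_zpowers x⟩
  have h5 : (⟨x, mem_zpowers x⟩ : zpowers x) • a ∈ ((⟨x, mem_zpowers x⟩ : zpowers x) • Q : Sylow 2 K) :=
    Subgroup.smul_mem_pointwise_smul a _ _ ha
  rw [h4] at h5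
  exact h5

/-- characteristic two -/
theorem exists_borel_two (U : Sylow 2 K) (hU : normalizer ((U : Subgroup K) : Set K) = P.B) {x : MulAut K}
    (hx : x ^ 2 = 1) : ∃ g, Iv (cx x g) P.B := by
  obtain ⟨Q, hQ⟩ := exists_sylow_fix hx
  obtain ⟨g, hg⟩ := MulAction.exists_smul_eq K Q U
  refine ⟨g⁻¹, ?_⟩
  have hmem : ∀ a, a ∈ (U : Subgroup K) ↔ g⁻¹ * a * g ∈ (Q : Subgroup K) := by
    intro a
    rw [← hg, Sylow.coe_subgroup_smul, Subgroup.mem_pointwise_smul_iff_inv_smul_mem]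
    simp [MulAut.smul_def, mul_assoc]
  have hUx : Iv (cx x g⁻¹) (U : Subgroup K) := by
    intro a ha
    rw [hmem] at ha ⊢
    rw [cx_apply]
    have := hQ _ ha
    simp only [inv_inv]
    have e : g⁻¹ * (g * x (g⁻¹ * a * g) * g⁻¹) * g = x (g⁻¹ * a * g) := by group
    rw [e]
    exact this
  rw [← hU]
  intro n hn
  have h1 := Subgroup.map_equiv_normalizer_eq (U : Subgroup K) (cx x g⁻¹)
  have h2 : (U : Subgroup K).map (cx x g⁻¹).toMonoidHom = U := hUx.map_eq
  rw [h2] at h1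
  have h3 : cx x g⁻¹ n ∈ (normalizer ((U : Subgroup K) : Set K)).map (cx x g⁻¹).toMonoidHom := ⟨n, hn, rfl⟩
  rw [h1] at h3
  exact h3

/-- **A radical involution fixes a conjugate of `B`.** -/
theorem exists_borel2 {r : ℕ} [Fact r.Prime] (U : Sylow r K) (hU : normalizer ((U : Subgroup K) : Set K) = P.B)
    (hcov : ∀ b ∈ P.B, ∃ u ∈ (U : Subgroup K), u⁻¹ * b ∈ P.N) (hc : center K = ⊥) (hirr : Irr P)
    (h2S : 2 ≤ P.S.ncard) (hBs : Group.IsSolvable P.B) (hstar : r ≠ 2 → StarOK P) {x : MulAut K} (h : RC x)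
    (hx : x ^ 2 = 1) : ∃ g, Iv (cx x g) P.B := by
  by_cases hr : r = 2
  · subst hr
    exact exists_borel_two U hU hx
  · exact exists_borel_odd U hU hcov hc hirr h2S hBs (hstar hr) h hx

/-- **Rank at least three.** -/
theorem main3 {r : ℕ} [Fact r.Prime] (U : Sylow r K) (hU : normalizer ((U : Subgroup K) : Set K) = P.B)
    (hcov : ∀ b ∈ P.B, ∃ u ∈ (U : Subgroup K), u⁻¹ * b ∈ P.N) (hc : center K = ⊥) (hcore : P.B.normalCore = ⊥)
    (hirr : Irr P) (h3S : 3 ≤ P.S.ncard) (hBs : Group.IsSolvable P.B) (hstar : r ≠ 2 → StarOK P)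
    (hflip : FlipOK P) {x : MulAut K} (h : RC x) (hx : x ^ 2 = 1) : x = 1 := by
  obtain ⟨g, hg⟩ := exists_borel2 U hU hcov hc hirr (by omega) hBs hstar h hx
  exact eq_one_of_fixed hcore h hBs (by omega) hirr
    (fun g hgB => rig2 hirr h3S hBs hflip (h.cx g) (cx_sq hx g) hgB) (fun h2 => by omega) hg

/-- **Rank two, non-solvable nodes.** -/
theorem main2 {r : ℕ} [Fact r.Prime] (U : Sylow r K) (hU : normalizer ((U : Subgroup K) : Set K) = P.B)
    (hcov : ∀ b ∈ P.B, ∃ u ∈ (U : Subgroup K), u⁻¹ * b ∈ P.N) (hc : center K = ⊥) (hcore : P.B.normalCore = ⊥)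
    (hirr : Irr P) (h2S : P.S.ncard = 2) (hBs : Group.IsSolvable P.B)
    (hns : ∀ s ∈ P.S, ¬ Group.IsSolvable (P.parabolic {s})) {x : MulAut K} (h : RC x) (hx : x ^ 2 = 1)
    (hx1 : x ≠ 1) : ∃ g, Iv (cx x g) P.B ∧ ∃ s ∈ P.S, ¬ Iv (cx x g) (P.parabolic {s}) := by
  by_contra hcon
  push Not at hcon
  obtain ⟨g, hg⟩ := exists_borel2 U hU hcov hc hirr (by omega) hBs (fun _ J hJ hJn hs => by
    obtain ⟨s, hsJ⟩ := hJn
    exact absurd (hs s hsJ) (hns s (hJ hsJ))) h hx
  exact hx1 (eq_one_of_fixed hcore h hBs (by omega) hirr hcon (fun _ => hns) hg)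

end Cfsg.Agent.H483.Rad23.Main
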