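import Mathlib
import Cfsg.Agent.H483.Rad23.Main
import Cfsg.Agent.H483.Rad23.Cyc
import Cfsg.Agent.H959.Rad3.Node

/-!
# Radical automorphisms of order two of groups with a root group datum (helper483, S3832)
-/

set_option autoImplicit false
set_option linter.unusedSectionVars false

namespace Cfsg.Agent.H483.Rad23.Rgd

open Cfsg Subgroup Cfsg.Agent.H459.Rad Cfsg.Agent.H459.Gallery Cfsg.Agent.H459.NonEll Cfsg.Agent.H459.Iface
open Cfsg.Agent.H459 Cfsg.Agent.H459.RgdRad Cfsg.Agent.H459.SmallNode Cfsg.Agent.H459.NonFix Cfsg.Agent.H959.Rad3.Gal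
open Cfsg.Agent.Schreier.BNSch Cfsg.Agent.FixBN
open Cfsg.Agent.H483.Rad23.Main Cfsg.Agent.H580.Graph
open scoped commutatorElement

open CoxeterSystem Cfsg.Agent.ChevalleyStructure.CoxeterGeom Cfsg.Agent.Tits.Roots
  Cfsg.Agent.Nodes.Reps Cfsg.Agent.Nodes.BNOf Cfsg.Agent.Nodes.LeviDec Cfsg.Agent.KFacts.RgdCharP
  Cfsg.Agent.KFacts.RgdVJ Cfsg.Agent.KFacts.RgdFilt Cfsg.Agent.KFacts.RgdBorelTits Cfsg.Agent.KFacts.RgdLieCharP

/-- a big (non-solvable) node -/
def NB {G : Type*} [Group G] {I : Type*} [DecidableEq I] (r : ℕ) (X : (I → ℤ) → Subgroup G) (i : I) : Prop :=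
  4 ≤ Nat.card (X (sr i)) ∧ (r = 2 → TwoInv (X (sr i)))

section

variable {G : Type*} [Group G] [Finite G] [IsSimpleGroup G] {r : ℕ} [Fact r.Prime] {l : ℕ}
    {M : CoxeterMatrix (Fin l)} {A : Fin l → Fin l → ℤ} {h : IsCartan M A} {T : Subgroup G} {n : Fin l → G}
    {X : (Fin l → ℤ) → Subgroup G}

theorem center_of_rgd (R : RGD M.toCoxeterSystem h r T n X) [Finite M.Group]
    (hX : Nodes.RGDLib.G1 M.toCoxeterSystem h X = ⊤) (hl : 1 ≤ l) : center G = ⊥ := by
  have hgen := Cfsg.Agent.Nodes.RGDLib.rgd_gen_of_G1 R hX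
  have hc : ∃ a b : G, a * b ≠ b * a := by
    by_contra hcon
    push Not at hcon
    have h1 : normalizer ((R.bnPair hgen).B : Set G) = (R.bnPair hgen).B := by
      have := Cfsg.Agent.S0312.result (R.bnPair hgen) (J := ∅) (Set.empty_subset _)
      rwa [parabolic_empty] at this
    refine not_mem_B (R.bnPair hgen) (mem_S R hgen (i := ⟨0, by omega⟩)) ?_
    rw [← h1, Subgroup.mem_normalizer_iff]
    intro z
    rw [hcon, inv_mul_cancel_left]
  exact center_eq_bot hc

/-- the data of the (B, N)-pair -/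
theorem data_of_rgd (R : RGD M.toCoxeterSystem h r T n X) [Finite M.Group]
    (hgen : RGD.B M.toCoxeterSystem h T X ⊔ NN M.toCoxeterSystem R.nsys = ⊤) (hl : 1 ≤ l)
    (hsol : ∀ U : Sylow r G, Group.IsSolvable (normalizer ((U : Subgroup G) : Set G))) :
    ∃ U : Sylow r G, normalizer ((U : Subgroup G) : Set G) = (R.bnPair hgen).B ∧
      (∀ b ∈ (R.bnPair hgen).B, ∃ u ∈ (U : Subgroup G), u⁻¹ * b ∈ (R.bnPair hgen).N) ∧
      (R.bnPair hgen).B.normalCore = ⊥ ∧ Group.IsSolvable (R.bnPair hgen).B := by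
  set P := R.bnPair hgen with hP
  have hne : P.S.Nonempty := ⟨n ⟨0, by omega⟩, ⟨0, by omega⟩, rfl⟩
  have hcore := Cfsg.Agent.Tits.OfBN.normalCore_eq_bot P hne
  have hsplit := SplitRGD.split_of_rgd Fact.out R hgen hcore
  obtain ⟨U', hU'⟩ := exists_sylow hsplit
  have hN : normalizer ((U' : Subgroup G) : Set G) = P.B := by rw [hU']; exact hsplit.normalizer_eq
  refine ⟨U', hN, fun b hb => ?_, hcore, ?_⟩
  · rw [hU']
    exact hsplit.cover b hb
  · rw [← hN]
    exact hsol U'

/-- big nodes are not solvable -/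
theorem not_solvable_of_nb (R : RGD M.toCoxeterSystem h r T n X) [Finite M.Group]
    (hgen : RGD.B M.toCoxeterSystem h T X ⊔ NN M.toCoxeterSystem R.nsys = ⊤) (hsmall : r ≠ 2 → Small r G) (i : Fin l)
    (hi : NB r X i) : ¬ Group.IsSolvable ((R.bnPair hgen).parabolic {n i}) := by
  by_cases hr2 : r = 2
  · exact not_solvable_of_twoInv R hgen i (hi.2 hr2)
  · intro hs
    set P := R.bnPair hgen with hP
    have hne : P.S.Nonempty := ⟨n i, i, rfl⟩
    have hcore := Cfsg.Agent.Tits.OfBN.normalCore_eq_bot P hne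
    have hsplit := SplitRGD.split_of_rgd Fact.out R hgen hcore
    obtain ⟨U', hU'⟩ := exists_sylow hsplit
    have hN : normalizer ((U' : Subgroup G) : Set G) = P.B := by rw [hU']; exact hsplit.normalizer_eq
    have h1 := hsmall hr2 U' (P.parabolic {n i}) (by rw [hN]; exact B_lt_parabolic P (mem_S R hgen))
      (by rw [hN]; exact max_node P (mem_S R hgen)) hs
    rw [hN] at h1
    have h2 := le_index R hgen i
    have h3 := hi.1
    rw [← hP] at h2
    omega

theorem relIndex_eq (R : RGD M.toCoxeterSystem h r T n X) [Finite M.Group]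
    (hgen : RGD.B M.toCoxeterSystem h T X ⊔ NN M.toCoxeterSystem R.nsys = ⊤) (i : Fin l) :
    (R.bnPair hgen).B.relIndex ((R.bnPair hgen).parabolic {n i}) = Nat.card (X (sr i)) + 1 :=
  le_antisymm (index_le R hgen i) (le_index R hgen i)

/-- **Rank at least three.** -/
theorem noRC_of_rgd (R : RGD M.toCoxeterSystem h r T n X) [hW : Finite M.Group]
    (hX : Nodes.RGDLib.G1 M.toCoxeterSystem h X = ⊤) (hl : 3 ≤ l)
    (hsol : ∀ U : Sylow r G, Group.IsSolvable (normalizer ((U : Subgroup G) : Set G)))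
    (hsmall : r ≠ 2 → Small r G)
    (h3 : l = 3 → ∀ i j, i ≠ j → M i j = 2 → NB r X i ∨ NB r X j)
    (h3' : l = 3 → r ≠ 2 → ∀ i j k, i ≠ j → k ≠ i → k ≠ j → M i j = 2 →
      NB r X k ∨ Nat.card (X (sr i)) ≠ Nat.card (X (sr j)))
    (h4 : 4 ≤ l → r ≠ 2 → (∃ t, ∀ s, s ≠ t → M s t ≠ 2) → ∀ i, NB r X i) : NoRC 2 G := by
  classical
  have hgen := Cfsg.Agent.Nodes.RGDLib.rgd_gen_of_G1 R hX
  have hc := center_of_rgd R hX (by omega)
  obtain ⟨U, hU, hcov, hcore, hBs⟩ := data_of_rgd R hgen (by omega) hsol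
  have hconn : Conn M := conn_of_simple R hX hc
  set P := R.bnPair hgen with hP
  have hirr : Irr P := irr R hgen hconn
  have hcard : P.S.ncard = l := by rw [hP, ncard_S, Fintype.card_fin]
  have hns : ∀ i, NB r X i → ¬ Group.IsSolvable (P.parabolic {n i}) := fun i hi =>
    not_solvable_of_nb R hgen hsmall i hi
  have hadj : ∀ {i j}, i ≠ j → (n i * n j * (n i)⁻¹ * (n j)⁻¹ ∉ P.B) → Adj M i j := fun hij h1 =>
    (adj_iff R hij).2 h1
  have hnadj : ∀ {i j}, i ≠ j → (n i * n j * (n i)⁻¹ * (n j)⁻¹ ∈ P.B) → M i j = 2 := by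
    intro i j hij h1
    by_contra h2
    exact (adj_iff R hij).1 ⟨hij, h2⟩ h1
  obtain ⟨k, v, hPL⟩ := Cyc.exists_pl (M := M) M.toCoxeterSystem (by
      intro a b hab
      by_cases hne : a = b
      · rw [hne, M.diagonal] at hab; omega
      · rcases h.rel a b hne with h1 | h1 | h1 | h1 <;> omega)
    (fun J hJ hJc => hconn J hJ (fun h => by rw [h, Set.compl_univ] at hJc; exact Set.not_nonempty_empty hJc))
    (by rw [Fintype.card_fin]; exact hl)
  have hSn : ∀ s ∈ P.S, ∃ i, n i = s := fun s hs => hs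
  have hnB : ∀ {s : G}, s * s * s⁻¹ * s⁻¹ ∈ P.B := by
    intro s
    have : s * s * s⁻¹ * s⁻¹ = 1 := by group
    rw [this]
    exact P.B.one_mem
  have hinj := R.n_injective
  -- the sizes of sets of nodes
  have hsize2 : ∀ a b : G, ({a, b} : Set G) ≠ P.S := by
    intro a b he
    have h1 := Set.ncard_insert_le a {b}
    rw [Set.ncard_singleton, he, hcard] at h1
    omega
  have hsize3 : ∀ a b c : G, ({a, b, c} : Set G) = P.S → l = 3 := by
    intro a b c he
    have h1 := Set.ncard_insert_le a {b, c}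
    have h2 := Set.ncard_insert_le b {c}
    rw [Set.ncard_singleton] at h2
    rw [he, hcard] at h1
    omega
  have hstar : r ≠ 2 → StarOK P := by
    intro hr2 J hJS hJn hJsol hJc t htS t' ht'S htJ ht'J hadjt hadjt' hidx hS
    obtain ⟨a, rfl⟩ := hSn t htS
    obtain ⟨a', rfl⟩ := hSn t' ht'S
    obtain ⟨s, hsJ⟩ := hJn
    obtain ⟨i, rfl⟩ := hSn s (hJS hsJ)
    have hia : i ≠ a := fun h => htJ (h ▸ hsJ)
    have hia' : i ≠ a' := fun h => ht'J (h ▸ hsJ)
    by_cases haa : a = a'
    · subst haa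
      rw [Set.insert_eq_of_mem (Set.mem_insert _ _)] at hS
      -- all nodes are adjacent to `a`
      have hall : ∀ j, j ≠ a → n j ∈ J := by
        intro j hj
        have h1 : n j ∈ insert (n a) J := by rw [hS]; exact mem_S R hgen
        exact h1.resolve_left fun h => hj (hinj h)
      have hst : ∀ j, j ≠ a → M j a ≠ 2 := fun j hj => (hadj hj (hadjt _ (hall j hj))).2
      by_cases h4l : 4 ≤ l
      · exact hns i (h4 h4l hr2 ⟨a, hst⟩ i) (hJsol _ hsJ)
      · have hl3 : l = 3 := by omega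
        -- another node
        obtain ⟨j, hji, hja⟩ : ∃ j : Fin l, j ≠ i ∧ j ≠ a := by
          by_contra hcon
          push Not at hcon
          have h5 : (Finset.univ : Finset (Fin l)) ⊆ {i, a} := by
            intro j _
            rw [Finset.mem_insert, Finset.mem_singleton]
            by_cases hj : j = i
            · exact Or.inl hj
            · exact Or.inr (hcon j hj)
          have h6 := Finset.card_le_card h5
          have h7 := Finset.card_le_two (a := i) (b := a)
          rw [Finset.card_univ, Fintype.card_fin] at h6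
          omega
        have h5 := hnadj (Ne.symm hji) (hJc _ hsJ _ (hall j hja) fun h => hji (hinj h).symm)
        rcases h3 hl3 i j (Ne.symm hji) h5 with h6 | h6
        · exact hns i h6 (hJsol _ hsJ)
        · exact hns j h6 (hJsol _ (hall j hja))
    · -- a square or a triangle
      have h5 : ∀ j, n j ∈ J → j = i := by
        intro j hj
        by_contra hji
        have hja : j ≠ a := fun h => htJ (h ▸ hj)
        have hja' : j ≠ a' := fun h => ht'J (h ▸ hj)
        exact hPL.no_square (hadj hia (hadjt _ hsJ)) (Cyc.adj_symm (hadj hja (hadjt _ hj))) (hadj hja' (hadjt' _ hj))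
          (Cyc.adj_symm (hadj hia' (hadjt' _ hsJ))) (Ne.symm hji) haa
      have hJ1 : J = {n i} := by
        apply Set.Subset.antisymm
        · intro u hu
          obtain ⟨j, rfl⟩ := hSn u (hJS hu)
          rw [h5 j hu]
          exact Set.mem_singleton _
        · rw [Set.singleton_subset_iff]
          exact hsJ
      have hl3 : l = 3 := by
        rw [hJ1] at hS
        exact hsize3 _ _ _ hS
      have hMaa : M a a' = 2 := by
        by_contra h6
        exact hPL.no_triangle (hadj hia (hadjt _ hsJ)) ⟨haa, h6⟩ (hadj hia' (hadjt' _ hsJ))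
      rcases h3' hl3 hr2 a a' i haa hia hia' hMaa with h6 | h6
      · exact hns i h6 (hJsol _ hsJ)
      · apply h6
        have h7 := relIndex_eq R hgen a
        have h8 := relIndex_eq R hgen a'
        rw [← hP] at h7 h8
        omega
  have hflip : FlipOK P := by
    intro s hs s' hs' hne hc1 hsol1 hsol2 hidx t ht t' ht' hst hst' hor hS
    obtain ⟨i, rfl⟩ := hSn s hs
    obtain ⟨i', rfl⟩ := hSn s' hs'
    obtain ⟨j, rfl⟩ := hSn t ht
    obtain ⟨j', rfl⟩ := hSn t' ht'
    have hii : i ≠ i' := fun h => hne (congrArg n h)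
    have hij : i ≠ j := by
      rintro rfl
      exact hst hnB
    have hij' : i' ≠ j' := by
      rintro rfl
      exact hst' hnB
    rcases hor with hjj | ⟨hjj, -, h5, h6⟩
    · obtain rfl := hinj hjj
      have e : ({n i, n i', n j, n j} : Set G) = {n i, n i', n j} := by rw [Set.pair_eq_singleton]
      rw [e] at hS
      rcases h3 (hsize3 _ _ _ hS) i i' hii (hnadj hii hc1) with h7 | h7
      · exact hns i h7 hsol1
      · exact hns i' h7 hsol2
    · have hjj' : j ≠ j' := fun h => hjj (congrArg n h)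
      have h7 : i ≠ j' := by
        rintro rfl
        exact h5 hnB
      have h8 : i' ≠ j := by
        rintro rfl
        exact h6 hnB
      exact hPL.no_square (hadj hij hst) (Cyc.adj_symm (hadj h8 h6)) (hadj hij' hst') (Cyc.adj_symm (hadj h7 h5)) hii hjj'
  intro x hxo hR
  have hx2 : x ^ 2 = 1 := by rw [← hxo]; exact pow_orderOf_eq_one x
  have hx1 : x = 1 := main3 U hU hcov hc hcore hirr (by rw [hcard]; exact hl) hBs hstar hflip hR hx2
  rw [hx1, orderOf_one] at hxo
  omega

/-- **Rank two, big nodes.** -/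
theorem row_of_rgd_two {M : CoxeterMatrix (Fin 2)} {A : Fin 2 → Fin 2 → ℤ} {h : IsCartan M A} {T : Subgroup G}
    {n : Fin 2 → G} {X : (Fin 2 → ℤ) → Subgroup G} (R : RGD M.toCoxeterSystem h r T n X) [hW : Finite M.Group]
    (hX : Nodes.RGDLib.G1 M.toCoxeterSystem h X = ⊤)
    (hsol : ∀ U : Sylow r G, Group.IsSolvable (normalizer ((U : Subgroup G) : Set G)))
    (hsmall : r ≠ 2 → Small r G) (hnb : ∀ i, NB r X i)
    (hsw : SwapRow r G ∨ Nat.card (X (sr 0)) ≠ Nat.card (X (sr 1))) : Row23 2 G := by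
  classical
  have hgen := Cfsg.Agent.Nodes.RGDLib.rgd_gen_of_G1 R hX
  have hc := center_of_rgd R hX (by omega)
  obtain ⟨U, hU, hcov, hcore, hBs⟩ := data_of_rgd R hgen (by omega) hsol
  have hconn : Conn M := conn_of_simple R hX hc
  set P := R.bnPair hgen with hP
  have hirr : Irr P := irr R hgen hconn
  have hcard : P.S.ncard = 2 := by rw [hP, ncard_S, Fintype.card_fin]
  have hSn : ∀ s ∈ P.S, ∃ i, n i = s := fun s hs => hs
  intro x hxo hR hPS hT
  have hx2 : x ^ 2 = 1 := by rw [← hxo]; exact pow_orderOf_eq_one x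
  have hx1 : x ≠ 1 := by
    rintro rfl
    rw [orderOf_one] at hxo
    omega
  obtain ⟨g, hg, s, hs, hsg⟩ := main2 U hU hcov hc hcore hirr hcard hBs (fun s hs => by
    obtain ⟨i, rfl⟩ := hSn s hs
    exact not_solvable_of_nb R hgen hsmall i (hnb i)) hR hx2 hx1
  rcases hsw with h1 | h1
  · have h2 : ∃ m ∈ P.parabolic {s}, cx x g m ∉ P.parabolic {s} := by
      unfold Iv at hsg
      push Not at hsg
      exact hsg
    exact h1 (cx x g) (by rw [orderOf_cx, hxo]) (hR.cx g) (Cfsg.Agent.H483.Rad23.PS.cx hPS g) (hT.cx g) U (by rw [hU]; exact hg)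
      (P.parabolic {s}) (by rw [hU]; exact B_le_parabolic P _) h2
  · apply hsg
    obtain ⟨i, rfl⟩ := hSn s hs
    obtain ⟨t, ht⟩ := exists_im' hg hs
    obtain ⟨j, rfl⟩ := hSn t ht.1
    have h2 := im_relIndex hg ht
    have h3 := relIndex_eq R hgen i
    have h4 := relIndex_eq R hgen j
    rw [← hP] at h3 h4
    have hij : i = j := by
      by_contra hne
      fin_cases i <;> fin_cases j
      · exact hne rfl
      · apply h1
        change _ = Nat.card (X (sr 0)) + 1 at h3
        change _ = Nat.card (X (sr 1)) + 1 at h4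
        omega
      · apply h1
        change _ = Nat.card (X (sr 1)) + 1 at h3
        change _ = Nat.card (X (sr 0)) + 1 at h4
        omega
      · exact hne rfl
    subst hij
    exact Near.Im.iv hg ht

end

end Cfsg.Agent.H483.Rad23.Rgd
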