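import Mathlib
import Cfsg.Agent.H483.Rad23.Rgd
import Cfsg.Agent.KFacts.SLRow.OmegaPlus
import Cfsg.Agent.H459.NonFixLie
import Cfsg.Agent.H958.Swap.Base

/-!
# Radical automorphisms of order two of the groups of Lie type of rank at least two: the families (helper483, S3832)

* `HasThree`, `HasThree.noRC` : rank at least three;
* `HasTwo`, `HasTwo.row` : rank two, big nodes;
* `t_PSL`, `t_PSp`, `t_PSU_even`, `t_PSU_odd`, `t_PO_odd`, `t_PO_minus`, `t_PO_plus`, `t_group`, `t_twE6`;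
* `w_PSp`, `w_PSU4`, `w_PSU5`, `w_group`, `w_twD4`.
-/

set_option autoImplicit false
set_option linter.unusedSectionVars false

namespace Cfsg.Agent.H483.Rad23.Fam

open Cfsg Subgroup Cfsg.Agent.H459.Rad Cfsg.Agent.H459.Gallery Cfsg.Agent.H459.NonEll Cfsg.Agent.H459.Iface
open Cfsg.Agent.H459 Cfsg.Agent.H459.RgdRad Cfsg.Agent.H459.SmallNode Cfsg.Agent.H459.NonFix Cfsg.Agent.H959.Rad3.Gal
open Cfsg.Agent.H959.Rad3.Node
open Cfsg.Agent.Schreier.BNSch Cfsg.Agent.FixBN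
open Cfsg.Agent.H483.Rad23.Main Cfsg.Agent.H483.Rad23.Rgd
open scoped commutatorElement

open CoxeterSystem Cfsg.Agent.ChevalleyStructure.CoxeterGeom Cfsg.Agent.Tits.Roots
  Cfsg.Agent.Nodes.Reps Cfsg.Agent.Nodes.BNOf Cfsg.Agent.Nodes.LeviDec Cfsg.Agent.KFacts.RgdCharP
  Cfsg.Agent.KFacts.RgdVJ Cfsg.Agent.KFacts.RgdFilt Cfsg.Agent.KFacts.RgdBorelTits Cfsg.Agent.KFacts.RgdLieCharP

/-- root group data of rank at least three for involutions -/
def HasThree (r : ℕ) (G : Type*) [Group G] : Prop :=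
  ∃ (l : ℕ) (M : CoxeterMatrix (Fin l)) (A : Fin l → Fin l → ℤ) (h : IsCartan M A) (T : Subgroup G) (n : Fin l → G)
    (X : (Fin l → ℤ) → Subgroup G) (_ : RGD M.toCoxeterSystem h r T n X),
    Finite M.Group ∧ Nodes.RGDLib.G1 M.toCoxeterSystem h X = ⊤ ∧ 3 ≤ l ∧
      (l = 3 → ∀ i j, i ≠ j → M i j = 2 → NB r X i ∨ NB r X j) ∧
      (l = 3 → r ≠ 2 → ∀ i j k, i ≠ j → k ≠ i → k ≠ j → M i j = 2 →
        NB r X k ∨ Nat.card (X (sr i)) ≠ Nat.card (X (sr j))) ∧
      (4 ≤ l → r ≠ 2 → (∃ t, ∀ s, s ≠ t → M s t ≠ 2) → ∀ i, NB r X i)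

/-- root group data of rank two with big nodes -/
def HasTwo (r : ℕ) (G : Type*) [Group G] : Prop :=
  ∃ (M : CoxeterMatrix (Fin 2)) (A : Fin 2 → Fin 2 → ℤ) (h : IsCartan M A) (T : Subgroup G) (n : Fin 2 → G)
    (X : (Fin 2 → ℤ) → Subgroup G) (_ : RGD M.toCoxeterSystem h r T n X),
    Finite M.Group ∧ Nodes.RGDLib.G1 M.toCoxeterSystem h X = ⊤ ∧ (∀ i, NB r X i) ∧
      (SwapRow r G ∨ Nat.card (X (sr 0)) ≠ Nat.card (X (sr 1)))

theorem HasThree.noRC {G : Type*} [Group G] [Finite G] [IsSimpleGroup G] {r : ℕ} [Fact r.Prime] (hG : HasThree r G)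
    (hsol : ∀ U : Sylow r G, Group.IsSolvable (normalizer ((U : Subgroup G) : Set G)))
    (hsmall : r ≠ 2 → Small r G) : NoRC 2 G := by
  obtain ⟨l, M, A, h, T, n, X, R, hW, hX, hl, h1, h2, h3⟩ := hG
  exact noRC_of_rgd R hX hl hsol hsmall h1 h2 h3

theorem HasTwo.row {G : Type*} [Group G] [Finite G] [IsSimpleGroup G] {r : ℕ} [Fact r.Prime] (hG : HasTwo r G)
    (hsol : ∀ U : Sylow r G, Group.IsSolvable (normalizer ((U : Subgroup G) : Set G)))
    (hsmall : r ≠ 2 → Small r G) : Row23 2 G := by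
  obtain ⟨M, A, h, T, n, X, R, hW, hX, hnb, hsw⟩ := hG
  exact row_of_rgd_two R hX hsol hsmall hnb hsw

theorem NB.map {G H : Type*} [Group G] [Group H] {I : Type*} [DecidableEq I] {r : ℕ} {X : (I → ℤ) → Subgroup G}
    {i : I} (h : NB r X i) (e : G ≃* H) : NB r (fun x => (X x).map e.toMonoidHom) i := by
  refine ⟨?_, fun hr => TwoInv.map (h.2 hr) e⟩
  rw [Nat.card_congr ((X (sr i)).equivMapOfInjective e.toMonoidHom e.injective).toEquiv.symm]
  exact h.1

theorem card_map {G H : Type*} [Group G] [Group H] (A : Subgroup G) (e : G ≃* H) :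
    Nat.card (A.map e.toMonoidHom) = Nat.card A :=
  Nat.card_congr (A.equivMapOfInjective e.toMonoidHom e.injective).toEquiv.symm

theorem HasThree.of_equiv {r : ℕ} {G H : Type*} [Group G] [Group H] [Finite G] (e : G ≃* H) (hG : HasThree r G) :
    HasThree r H := by
  obtain ⟨l, M, A, h, T, n, X, R, hW, hX, hl, h1, h2, h3⟩ := hG
  refine ⟨l, M, A, h, T.map e.toMonoidHom, fun i => e (n i), fun x => (X x).map e.toMonoidHom,
    Nodes.RGDLib.rgd_map_of_injective R e.toMonoidHom e.injective, hW, ?_, hl,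
    fun hl3 i j hij hM => (h1 hl3 i j hij hM).imp (fun h => NB.map h e) (fun h => NB.map h e),
    fun hl3 hr i j k hij hki hkj hM => (h2 hl3 hr i j k hij hki hkj hM).imp (fun h => NB.map h e) (fun h => ?_),
    fun hl4 hr hst i => NB.map (h3 hl4 hr hst i) e⟩
  · rw [Nodes.RGDTypeA.G1_map, hX]
    exact Subgroup.map_top_of_surjective _ e.surjective
  · rw [card_map, card_map]
    exact h

theorem HasTwo.of_equiv {r : ℕ} [Fact r.Prime] {G H : Type*} [Group G] [Group H] [Finite G] [Finite H] (e : G ≃* H)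
    (hG : HasTwo r G) : HasTwo r H := by
  obtain ⟨M, A, h, T, n, X, R, hW, hX, hnb, hsw⟩ := hG
  refine ⟨M, A, h, T.map e.toMonoidHom, fun i => e (n i), fun x => (X x).map e.toMonoidHom,
    Nodes.RGDLib.rgd_map_of_injective R e.toMonoidHom e.injective, hW, ?_, fun i => NB.map (hnb i) e,
    hsw.imp (fun h => ?_) (fun h => ?_)⟩
  · rw [Nodes.RGDTypeA.G1_map, hX]
    exact Subgroup.map_top_of_surjective _ e.surjective
  · exact h.congr e.symm
  · rw [card_map, card_map]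
    exact h

theorem NB.of_big {G : Type*} [Group G] {I : Type*} [DecidableEq I] {r : ℕ} {X : (I → ℤ) → Subgroup G}
    (h : Big r X) (i : I) : NB r X i := h i

/-! ### The families -/

section Families

universe u

theorem t_PSL {F : Type*} [Field F] [Finite F] (n : ℕ) (hn : 3 ≤ n) {r : ℕ} [Fact r.Prime] [CharP F r]
    (hq : n = 3 → 4 ≤ Nat.card F) :
    HasThree r (Matrix.ProjectiveSpecialLinearGroup (Fin (n + 1)) F) := by
  have hW : Finite (Cfsg.Agent.LieRecognition.BNCox.cA n).Group :=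
    Nodes.RootsA.finite_W (Cfsg.Agent.LieRecognition.BNCox.cA n).toCoxeterSystem (Nodes.RootsA.isCartan n)
  have hB : n = 3 → ∀ i, NB r (fun x => (Nodes.RGDTypeA.X F x).map (Nodes.RGDTypeA.pr n F)) i := by
    intro h i
    have hF := hq h
    have : Finite (Matrix.SpecialLinearGroup (Fin (n + 1)) F) := inferInstance
    have : Finite (Matrix.ProjectiveSpecialLinearGroup (Fin (n + 1)) F) := Quotient.finite _
    have hcard : Nat.card ((Nodes.RGDTypeA.X F (sr i)).map (Nodes.RGDTypeA.pr n F)) = Nat.card F := by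
      refine (Nodes.CardSup.card_map_X (Nodes.RGDTypeA.rgd (F := F) (p := r) _ _) (Nodes.RGDTypeA.pr n F)
        Nodes.RGDTypeA.ker_pr.le (isRoot_sr (Cfsg.Agent.LieRecognition.BNCox.cA n).toCoxeterSystem
          (Nodes.RootsA.isCartan n) i)).trans ?_
      rw [Nodes.RGDTypeA.X_sr]
      have hne : i.castSucc ≠ i.succ := (Fin.castSucc_lt_succ).ne
      refine (Nat.card_congr (Equiv.ofBijective (fun t : F => (⟨_, Nodes.RGDTypeA.tv_mem_XX i.castSucc i.succ t⟩ :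
        Nodes.RGDTypeA.XX F i.castSucc i.succ)) ⟨?_, ?_⟩)).symm
      · intro s t hst
        exact Nodes.RGDTypeA.tv_inj hne (congrArg Subtype.val hst)
      · rintro ⟨g, t, rfl⟩
        exact ⟨t, rfl⟩
    refine ⟨by show 4 ≤ Nat.card ((Nodes.RGDTypeA.X F (sr i)).map (Nodes.RGDTypeA.pr n F)); rw [hcard]; exact hF, fun hr => ?_⟩
    refine twoInv_of_exp (by show 4 ≤ Nat.card ((Nodes.RGDTypeA.X F (sr i)).map (Nodes.RGDTypeA.pr n F)); rw [hcard]; exact hF) ?_
    have := charP_two (F := F) hr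
    intro u hu
    change u ∈ (Nodes.RGDTypeA.X F (sr i)).map (Nodes.RGDTypeA.pr n F) at hu
    rw [Nodes.RGDTypeA.X_sr, Subgroup.mem_map] at hu
    obtain ⟨_, ⟨a, rfl⟩, rfl⟩ := hu
    exact sq_of_add (f := fun a => Nodes.RGDTypeA.pr n F (Cfsg.Agent.TitsThree.KSideA.tv i.castSucc i.succ a))
      (fun a b => by
        show Nodes.RGDTypeA.pr n F (Cfsg.Agent.TitsThree.KSideA.tv i.castSucc i.succ (a + b)) = _
        rw [Cfsg.Agent.TitsThree.KSideA.tv_add, map_mul]) a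
  refine ⟨n, Cfsg.Agent.LieRecognition.BNCox.cA n, _, Nodes.RootsA.isCartan n, _, _, _, Nodes.RGDTypeA.rgd_psl _ _, hW,
    Nodes.RGDTypeA.G1_psl_eq_top _ _, hn, fun h i j _ _ => Or.inl (hB h i), fun h _ i j k _ _ _ _ => Or.inl (hB h k),
    fun h4 _ hst => absurd hst (no_star ?_ h4)⟩
  intro i j hij h2
  rw [Cfsg.Agent.LieRecognition.BNCox.cA_apply] at h2
  by_contra hcon
  apply h2
  show (if (i : ℕ) = j then 1 else if (i : ℕ) + 1 = j ∨ (j : ℕ) + 1 = i then 3 else 2) = 2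
  rw [if_neg (fun h => hij (Fin.ext h)), if_neg hcon]

section TypeC

open Cfsg.Agent.Nodes.TypeC Cfsg.Agent.Nodes.WittAll Cfsg.Agent.Nodes.WittRoot Cfsg.Agent.Nodes.RGDLib
open Cfsg.Agent.TitsThree Cfsg.Agent.TitsThree.Siegel Cfsg.Agent.TitsThree.WittFrame
  Cfsg.Agent.TitsThree.WittWeyl Cfsg.Agent.TitsThree.FrameCN Cfsg.Agent.KFacts.RgdFiltWitt
open Cfsg.Agent.FixBN.WittNodeB

variable {F : Type*} [Field F] {V : Type*} [AddCommGroup V] [Module F V] {H : HForm F V} {n : ℕ}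
  {Fr : Frame H (Fin n)} {K : Type*} [Group K] (M : Model Fr K) {p : ℕ}

/-- the short nodes -/
theorem nb_short (hA : AmbT Fr p M.I) [Finite V] [Finite K] [Fact p.Prime] [CharP F p] {p0 : Fr.Adm} (hp0 : p0.c ≠ 0)
    (h1 : 4 ≤ Nat.card F) {i : Fin n} (hi : (i : ℕ) + 1 < n) : NB p (Nodes.WittModel.X M) i := by
  have h4 : 4 ≤ Nat.card (Nodes.WittModel.X M (sr i)) := by
    rw [H807.CubePar.card_short M hA hp0 hi]
    exact h1
  refine ⟨h4, fun hp => ?_⟩
  have := charP_two (F := F) hp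
  refine twoInv_of_exp h4 fun u hu => ?_
  obtain ⟨t, rfl⟩ := (mem_X_I (M := M) hi).1 hu
  exact sq_of_add (f := M.X (i, true) (Nodes.TypeC.nx i)) (X_add' M _ _) t

/-- the last node -/
theorem nb_last [Finite K] (h2 : 4 ≤ Nat.card Fr.Adm)
    (h3 : p = 2 → ∃ q q' : Fr.Adm, q ≠ 1 ∧ q' ≠ 1 ∧ q ≠ q' ∧ q * q = 1 ∧ q' * q' = 1) {i : Fin n}
    (hi : ¬ (i : ℕ) + 1 < n) : NB p (Nodes.WittModel.X M) i := by
  refine ⟨h2.trans (H807.CubePar.card_last_ge M hi), fun hp => ?_⟩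
  obtain ⟨q, q', hq, hq', hne, hqq, hqq'⟩ := h3 hp
  have h0 : M.Z (i, true) 1 = 1 := by
    have h3 := Z_mul' M (i, true) 1 1
    rw [mul_one] at h3
    exact left_eq_mul.1 h3
  refine ⟨_, (mem_X_last (M := M) hi).2 ⟨q, rfl⟩, _, (mem_X_last (M := M) hi).2 ⟨q', rfl⟩,
    fun h => hq (Z_eq_one M h), fun h => hq' (Z_eq_one M h), fun h => hne ?_, ?_, ?_⟩
  · have h3 : M.Z (i, true) (q'⁻¹ * q) = 1 := by
      have h4 := Z_mul' M (i, true) q' (q'⁻¹ * q)
      rw [mul_inv_cancel_left, h] at h4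
      exact left_eq_mul.1 h4
    exact (inv_mul_eq_one.1 (Z_eq_one M h3)).symm
  · rw [pow_two, ← Z_mul', hqq, h0]
  · rw [pow_two, ← Z_mul', hqq', h0]

/-- the size of the last root group -/
theorem card_last_le [Finite Fr.Adm] {i : Fin n} (hi : ¬ (i : ℕ) + 1 < n) :
    Nat.card (Nodes.WittModel.X M (sr i)) ≤ Nat.card Fr.Adm := by
  refine Nat.card_le_card_of_surjective (fun q : Fr.Adm => (⟨M.Z (i, true) q, (mem_X_last (M := M) hi).2 ⟨q, rfl⟩⟩ :
    Nodes.WittModel.X M (sr i))) ?_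
  rintro ⟨u, hu⟩
  obtain ⟨q, rfl⟩ := (mem_X_last (M := M) hi).1 hu
  exact ⟨q, rfl⟩

theorem B_eq_two {i j : Fin 3} (hij : i ≠ j) (h : CoxeterMatrix.B 3 i j = 2) :
    (i = 0 ∧ j = 2) ∨ (i = 2 ∧ j = 0) := by
  have h0 : (if i = j then 1 else if (i : ℕ) = 3 - 1 ∧ (j : ℕ) = 3 - 2 ∨ (j : ℕ) = 3 - 1 ∧ (i : ℕ) = 3 - 2 then 4 else
    if (j : ℕ) + 1 = i ∨ (i : ℕ) + 1 = j then 3 else 2) = 2 := h
  rw [if_neg hij] at h0
  have h1 := i.2
  have h2 := j.2
  have h3 : (i : ℕ) ≠ j := fun h => hij (Fin.ext h)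
  have h5 : ¬ ((j : ℕ) + 1 = i ∨ (i : ℕ) + 1 = j) := by
    intro h5
    rw [if_pos h5] at h0
    split_ifs at h0 <;> omega
  have h6 : ((i : ℕ) = 0 ∧ (j : ℕ) = 2) ∨ ((i : ℕ) = 2 ∧ (j : ℕ) = 0) := by omega
  rcases h6 with ⟨h6, h7⟩ | ⟨h6, h7⟩
  · exact Or.inl ⟨Fin.ext h6, Fin.ext h7⟩
  · exact Or.inr ⟨Fin.ext h6, Fin.ext h7⟩

/-- **Type `C_n`, `n ≥ 3`.** -/
theorem t_C (hA : AmbT Fr p M.I) [Finite V] [Finite K] [Fact p.Prime] [CharP F p] {p0 : Fr.Adm} (hp0 : p0.c ≠ 0)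
    (hn : 3 ≤ n) (hE : n = 3 → 4 ≤ Nat.card F ∨ (Nat.card F < Nat.card Fr.Adm ∧ 4 ≤ Nat.card Fr.Adm ∧
      (p = 2 → ∃ q q' : Fr.Adm, q ≠ 1 ∧ q' ≠ 1 ∧ q ≠ q' ∧ q * q = 1 ∧ q' * q' = 1))) : HasThree p K := by
  refine ⟨n, CoxeterMatrix.B n, A n, isCartan n, _, _, _, rgdC_model M hA hp0 _,
    finite_W (CoxeterMatrix.B n).toCoxeterSystem, Nodes.WittModel.G1_eq_top _ (by omega) _, hn, ?_, ?_,
    fun h4 _ hst => absurd hst (star_B h4)⟩
  · rintro rfl i j hij hM
    rcases hE rfl with h1 | ⟨-, h2, h3⟩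
    · rcases B_eq_two hij hM with ⟨rfl, rfl⟩ | ⟨rfl, rfl⟩
      · exact Or.inl (nb_short M hA hp0 h1 (by norm_num))
      · exact Or.inr (nb_short M hA hp0 h1 (by norm_num))
    · rcases B_eq_two hij hM with ⟨rfl, rfl⟩ | ⟨rfl, rfl⟩
      · exact Or.inr (nb_last M h2 h3 (by norm_num))
      · exact Or.inl (nb_last M h2 h3 (by norm_num))
  · rintro rfl - i j k hij hki hkj hM
    rcases hE rfl with h1 | ⟨h1, -, -⟩
    · left
      refine nb_short M hA hp0 h1 ?_
      rcases B_eq_two hij hM with ⟨rfl, rfl⟩ | ⟨rfl, rfl⟩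
      · have := k.2
        have h5 : (k : ℕ) ≠ 2 := fun h => hkj (Fin.ext h)
        omega
      · have := k.2
        have h5 : (k : ℕ) ≠ 2 := fun h => hki (Fin.ext h)
        omega
    · right
      have e0 := H807.CubePar.card_short M hA hp0 (i := (0 : Fin 3)) (by norm_num)
      have e2 := H807.CubePar.card_last_ge M (i := (2 : Fin 3)) (by norm_num)
      rcases B_eq_two hij hM with ⟨rfl, rfl⟩ | ⟨rfl, rfl⟩
      · exact fun h => by omega
      · exact fun h => by omega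

/-- **Type `C_2`.** -/
theorem w_C {Fr : Frame H (Fin 2)} (M : Model Fr K) (hA : AmbT Fr p M.I) [Finite V] [Finite K] [Fact p.Prime]
    [CharP F p] {p0 : Fr.Adm} (hp0 : p0.c ≠ 0)
    (h1 : 4 ≤ Nat.card F) (h2 : 4 ≤ Nat.card Fr.Adm)
    (h3 : p = 2 → ∃ q q' : Fr.Adm, q ≠ 1 ∧ q' ≠ 1 ∧ q ≠ q' ∧ q * q = 1 ∧ q' * q' = 1)
    (hsw : SwapRow p K ∨ (Finite Fr.Adm ∧ Nat.card Fr.Adm ≠ Nat.card F)) : HasTwo p K := by
  refine ⟨CoxeterMatrix.B 2, A 2, isCartan 2, _, _, _, rgdC_model M hA hp0 _,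
    finite_W (CoxeterMatrix.B 2).toCoxeterSystem, Nodes.WittModel.G1_eq_top _ (by omega) _,
    fun i => big_C M hA hp0 h1 h2 h3 i, hsw.imp id ?_⟩
  rintro ⟨hf, hne⟩
  have e0 := H807.CubePar.card_short M hA hp0 (i := (0 : Fin 2)) (by norm_num)
  have e1 := H807.CubePar.card_last_ge M (i := (1 : Fin 2)) (by norm_num)
  have e2 := card_last_le M (i := (1 : Fin 2)) (by norm_num)
  intro h
  omega

end TypeC

section PSU

open Cfsg.Agent.Nodes.WittU Cfsg.Agent.Nodes.WittInst Cfsg.Agent.Nodes.WittAll Cfsg.Agent.TitsThree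
open Cfsg.Agent.TitsThree.WittFrame Cfsg.Agent.TitsThree.WBridge
open Cfsg.Agent.LieClassical.HermBasic Cfsg.Agent.TitsThree.KSideU

theorem t_PSp {F : Type*} [Field F] [Finite F] {m : ℕ} (hm : 3 ≤ m) {p : ℕ}
    [Fact p.Prime] [CharP F p] (hq : m = 3 → 4 ≤ Nat.card F) : HasThree p (PSp m F) := by
  have := Omega.ML.Ex.Typ.finite_adm (SpIdent.frame m F)
  have : Finite (PSp m F) := by infer_instance
  exact t_C (KInstSp.model m F) (AmbT.of_amb amb_Sp p) (p0 := SpIdent.adm 1) one_ne_zero hm fun h => Or.inl (hq h)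

theorem w_PSp {F : Type*} [Field F] [Finite F] {p : ℕ}
    [Fact p.Prime] [CharP F p] (hq : 4 ≤ Nat.card F) (hsw : SwapRow p (PSp 2 F)) : HasTwo p (PSp 2 F) := by
  have := Omega.ML.Ex.Typ.finite_adm (SpIdent.frame 2 F)
  have : Finite (PSp 2 F) := by infer_instance
  have hc : 4 ≤ Nat.card (SpIdent.frame 2 F).Adm := hq.trans
    (Nat.card_le_card_of_injective (fun c : F => (SpIdent.adm c : (SpIdent.frame 2 F).Adm)) fun a b e =>
      congrArg Frame.Adm.c e)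
  refine w_C (KInstSp.model 2 F) (AmbT.of_amb amb_Sp p) (p0 := SpIdent.adm 1) one_ne_zero hq hc (fun hp => ?_)
    (Or.inl hsw)
  have := charP_two (F := F) hp
  exact adm_two_of_id (fun a => rfl) hc

theorem t_PSU {F : Type*} [Field F] [Fintype F] {q N : ℕ} (hF : Fintype.card F = q ^ 2) (hN : 6 ≤ N) {p : ℕ}
    [Fact p.Prime] [CharP F p] : HasThree p (PSU N F q) := by
  obtain ⟨m, hm⟩ : ∃ m, N = 2 * m ∨ N = 2 * m + 1 := ⟨N / 2, by omega⟩
  obtain ⟨W, -⟩ := exists_wframe hF hm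
  obtain ⟨p0, hp0, -⟩ := exists_adm hF W
  have : Finite (PSU N F q) := by infer_instance
  have hq2 : 2 ≤ q := by
    have h1 : 1 < Fintype.card F := Fintype.one_lt_card
    rw [hF] at h1
    by_contra hcon
    have : q = 0 ∨ q = 1 := by omega
    rcases this with rfl | rfl <;> norm_num at h1
  exact t_C (KInstU.model hF (by omega) W) (AmbT.of_amb (amb_U hF W) p) hp0 (by omega) fun _ =>
    Or.inl (by rw [Nat.card_eq_fintype_card, hF]; nlinarith)

theorem w_PSU4 {F : Type*} [Field F] [Fintype F] {q : ℕ} (hF : Fintype.card F = q ^ 2) {p : ℕ}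
    [Fact p.Prime] [CharP F p] (hq : 4 ≤ q) : HasTwo p (PSU 4 F q) := by
  obtain ⟨W, hW⟩ := exists_wframe_even hF (N := 2 * 2) rfl
  obtain ⟨p0, hp0, -⟩ := exists_adm hF W
  have hfa := Omega.ML.Ex.Typ.finite_adm (toFrame W)
  have : Finite (PSU (2 * 2) F q) := by infer_instance
  have h0 : (0 : F) ^ q = 0 := zero_pow_q hF
  let f : {s : F // s + s ^ q = 0} → (toFrame W).Adm := fun c => ⟨0, c.1, W.V0.zero_mem, by
    rw [ok_iff, herm_zero_left, neg_zero]
    exact c.2⟩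
  have hf : Function.Injective f := fun a b e => Subtype.ext (congrArg Frame.Adm.c e)
  have hc := ClassicalGeometry.HermLines.card_trace_eq hF h0
  have hsurj : Function.Surjective f := by
    intro a
    have hw : a.w = 0 := by
      have h1 : a.w ∈ W.V0 := (toFrame W).ok_mem a.ok
      rw [hW] at h1
      exact (Submodule.mem_bot F).1 h1
    have hok : a.c + a.c ^ q = -hermForm (2 * 2) F q a.w a.w := (ok_iff hF).1 a.ok.2
    rw [hw, herm_zero_left, neg_zero] at hok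
    exact ⟨⟨a.c, hok⟩, Frame.Adm.ext hw.symm rfl⟩
  have hcA : Nat.card (toFrame W).Adm = q :=
    (Nat.card_congr (Equiv.ofBijective f ⟨hf, hsurj⟩)).symm.trans hc
  refine w_C (KInstU.model hF (by omega) W) (AmbT.of_amb (amb_U hF W) p) hp0
    (by rw [Nat.card_eq_fintype_card, hF]; nlinarith) (by rw [hcA]; exact hq) (fun hp => ?_) (Or.inr ⟨hfa, ?_⟩)
  · have := charP_two (F := F) hp
    obtain ⟨u, v, hu, hv, huv⟩ := two_of hf (by rw [hc]; exact hq)
    have h2 : ∀ c, f c * f c = 1 := by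
      intro c
      refine Frame.Adm.ext ?_ ?_
      · show (0 : Fin (2 * 2) → F) + 0 = 0
        rw [add_zero]
      · rw [Frame.Adm.mul_c, CharTwo.add_self_eq_zero, Siegel.HForm.zero_left, mul_zero, sub_zero]
        rfl
    exact ⟨f u, f v, hu, hv, huv, h2 u, h2 v⟩
  · rw [hcA, Nat.card_eq_fintype_card, hF]
    nlinarith

theorem w_PSU5 {F : Type*} [Field F] [Fintype F] {q : ℕ} (hF : Fintype.card F = q ^ 2) {p : ℕ}
    [Fact p.Prime] [CharP F p] (hq : 3 ≤ q) (hq4 : p = 2 → 4 ≤ q) : HasTwo p (PSU 5 F q) := by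
  obtain ⟨W, d, hd, hW⟩ := exists_wframe_odd hF (N := 2 * 2 + 1) rfl
  obtain ⟨p0, hp0, -⟩ := exists_adm hF W
  have hfa := Omega.ML.Ex.Typ.finite_adm (toFrame W)
  have : Finite (PSU (2 * 2 + 1) F q) := by infer_instance
  have hd0 : d ≠ 0 := by
    rintro rfl
    rw [herm_zero_left] at hd
    exact zero_ne_one hd
  have h0 : (0 : F) ^ q = 0 := zero_pow_q hF
  let f : {s : F // s + s ^ q = 0} → (toFrame W).Adm := fun c => ⟨0, c.1, W.V0.zero_mem, by
    rw [ok_iff, herm_zero_left, neg_zero]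
    exact c.2⟩
  have hf : Function.Injective f := fun a b e => Subtype.ext (congrArg Frame.Adm.c e)
  have hc := ClassicalGeometry.HermLines.card_trace_eq hF h0
  have hcA : q ^ 3 ≤ Nat.card (toFrame W).Adm := by
    have h1 : Nat.card (Σ a : F, {s : F // s + s ^ q = -hermForm (2 * 2 + 1) F q (a • d) (a • d)}) = q ^ 3 := by
      rw [Nat.card_sigma, Finset.sum_congr rfl (g := fun _ => q), Finset.sum_const, Finset.card_univ, hF,
        smul_eq_mul, ← pow_succ]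
      intro a _
      exact ClassicalGeometry.HermLines.card_trace_eq hF (by rw [neg_pow_q hF, herm_self_pow hF])
    refine h1.ge.trans ?_
    refine Nat.card_le_card_of_injective
      (fun x : Σ a : F, {s : F // s + s ^ q = -hermForm (2 * 2 + 1) F q (a • d) (a • d)} =>
        (⟨x.1 • d, x.2.1, ?_, x.2.2⟩ : (toFrame W).Adm)) ?_
    · rw [hW]
      exact Submodule.smul_mem _ _ (Submodule.mem_span_singleton_self d)
    · rintro ⟨a, s, hs⟩ ⟨b, t, ht⟩ e
      have e1 : a • d = b • d := congrArg Frame.Adm.w e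
      have e2 : s = t := congrArg Frame.Adm.c e
      obtain rfl : a = b := smul_left_injective F hd0 e1
      subst e2
      rfl
  have hlt : q ^ 2 < q ^ 3 := Nat.pow_lt_pow_right (by omega) (by omega)
  refine w_C (KInstU.model hF (by omega) W) (AmbT.of_amb (amb_U hF W) p) hp0
    (by rw [Nat.card_eq_fintype_card, hF]; nlinarith) (by nlinarith) (fun hp => ?_) (Or.inr ⟨hfa, ?_⟩)
  · have := charP_two (F := F) hp
    obtain ⟨u, v, hu, hv, huv⟩ := two_of hf (by rw [hc]; exact hq4 hp)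
    have h2 : ∀ c, f c * f c = 1 := by
      intro c
      refine Frame.Adm.ext ?_ ?_
      · show (0 : Fin (2 * 2 + 1) → F) + 0 = 0
        rw [add_zero]
      · rw [Frame.Adm.mul_c, CharTwo.add_self_eq_zero, Siegel.HForm.zero_left, mul_zero, sub_zero]
        rfl
    exact ⟨f u, f v, hu, hv, huv, h2 u, h2 v⟩
  · have e : Nat.card F = q ^ 2 := by rw [Nat.card_eq_fintype_card, hF]
    rw [e]
    intro h
    omega

end PSU

section Orthogonal

open QuadraticMap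
open Cfsg.Agent.Nodes.WittRoot Cfsg.Agent.Nodes.RGDLib Cfsg.Agent.Nodes.WittAll Cfsg.Agent.Nodes.WittU
  Cfsg.Agent.Nodes.WittInst
open Cfsg.Agent.TitsThree Cfsg.Agent.TitsThree.Siegel Cfsg.Agent.TitsThree.SiegelGen
open Cfsg.Agent.TitsThree.WittFrame Cfsg.Agent.TitsThree.WittWeyl Cfsg.Agent.TitsThree.FrameCN
open Cfsg.Agent.LieClassical Cfsg.Agent.LieClassical.OrthCore Cfsg.Agent.LieClassical.OrthTrans
open Cfsg.Agent.LieClassical.OrthSimple Cfsg.Agent.LieClassical.OrthFinite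
open Cfsg.Agent.LieClassical.OrthForms
open Cfsg.Agent.TitsThree.WBridge Cfsg.Agent.TitsThree.KSideO Cfsg.Agent.TitsThree.StdData

variable {F : Type*} [Field F] {m : ℕ}

theorem t_PO_odd [Finite F] (h2 : (2 : F) ≠ 0) (hm : 3 ≤ m) {p : ℕ} [Fact p.Prime] [CharP F p]
    (hq : m = 3 → 4 ≤ Nat.card F) : HasThree p (Cfsg.POmega F (Cfsg.quadFormOdd m F)) := by
  have : Finite (Cfsg.POmega F (Cfsg.quadFormOdd m F)) := by infer_instance
  rw [← coe_oddForm] at this ⊢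
  have hG : Good (oddForm m F) := by
    apply good_of_finite (nondeg_oddForm m F h2)
    rw [Module.finrank_fintype_fun_eq_card, Fintype.card_sum, Fintype.card_sum, Fintype.card_fin,
      Fintype.card_unit]
    omega
  have hp : ((embOdd m F).ngt ⟨1, -1 ^ 2, rfl⟩).c ≠ 0 := by
    change (1 : F)⁻¹ * (-1 ^ 2) ≠ 0
    simp
  exact t_C (model (wodd m F) hG ⟨_, hp⟩) (AmbT.of_amb (amb_O_of_two _ h2) p) hp hm fun h => Or.inl (hq h)

theorem t_PO_minus [Finite F] (a b : F)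
    (hab : ∀ z₁ z₂ : F, z₁ ^ 2 + a * z₁ * z₂ + b * z₂ ^ 2 = 0 → z₁ = 0 ∧ z₂ = 0)
    (hm : 3 ≤ m) {p : ℕ} [Fact p.Prime] [CharP F p] :
    HasThree p (Cfsg.POmega F (Cfsg.quadFormMinus m F a b)) := by
  have : Finite (Cfsg.POmega F (Cfsg.quadFormMinus m F a b)) := by infer_instance
  rw [← coe_minusForm] at this ⊢
  have hG : Good (minusForm m F a b) := by
    apply good_of_finite (nondeg_minusForm m F a b hab)
    rw [Module.finrank_fintype_fun_eq_card, Fintype.card_sum, Fintype.card_sum, Fintype.card_fin,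
      Fintype.card_fin]
    omega
  have hp : ((embMinus m F a b hab).ngt ⟨(1, 0), -nf a b (1, 0), rfl⟩).c ≠ 0 := by
    change (1 : F)⁻¹ * (-nf a b (1, 0)) ≠ 0
    simp [nf]
  have hA : AmbT (toFrame (wminus m F a b hab)) p (E (minusForm m F a b)) := by
    by_cases h2 : (2 : F) = 0
    · have hp2 : p = 2 := by
        have h3 : CharP F 2 := CharTwo.of_one_ne_zero_of_two_eq_zero one_ne_zero h2
        exact CharP.eq F ‹CharP F p› h3
      subst hp2
      exact ambT_O _ fun g hg hg2 hb => fixp_minus a b hab h2 (by omega) hG hg hg2 hb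
    · exact AmbT.of_amb (amb_O_of_two _ h2) p
  have := Omega.ML.Ex.Typ.finite_adm (toFrame (wminus m F a b hab))
  have hF2 : 2 ≤ Nat.card F := Finite.one_lt_card
  refine t_C (model (wminus m F a b hab) hG ⟨_, hp⟩) hA hp hm fun h => ?_
  have hc : Nat.card F ^ 2 ≤ Nat.card (toFrame (wminus m F a b hab)).Adm := by
    rw [_root_.sq, ← Nat.card_prod]
    refine Nat.card_le_card_of_injective (fun w : F × F => (embMinus m F a b hab).ngt ⟨w, -nf a b w, rfl⟩)
      fun x y e => ?_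
    have e1 : (embMinus m F a b hab).j x = (embMinus m F a b hab).j y := congrArg Frame.Adm.w e
    have e2 := congrFun e1 (Sum.inr 0)
    have e3 := congrFun e1 (Sum.inr 1)
    exact Prod.ext (by simpa [embMinus] using e2) (by simpa [embMinus] using e3)
  have hc' : 4 ≤ Nat.card (toFrame (wminus m F a b hab)).Adm := by nlinarith
  refine Or.inr ⟨by nlinarith, hc', fun hp2 => ?_⟩
  have := charP_two (F := F) hp2
  exact adm_two_of_id (fun a => rfl) hc'

theorem t_PO_plus [Finite F] (n : ℕ) (hn : 1 ≤ n) {p : ℕ} [Fact p.Prime] [CharP F p]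
    (hq : n = 1 → p ≠ 2 → 4 ≤ Nat.card F) : HasThree p (Cfsg.POmega F (Cfsg.quadFormPlus (n + 3) F)) := by
  rw [← coe_plusForm]
  have hG : Good (plusForm (n + 3) F) := by
    apply good_of_finite (nondeg_plusForm (n + 3) F)
    rw [Module.finrank_fintype_fun_eq_card, Fintype.card_sum, Fintype.card_fin]
    omega
  refine ⟨n + 1 + 2, Nodes.TypeD.M (n + 1), _, _, _, _, _,
    rgdD_model (wplus (n + 3) F) hG (amb_plus _) (adm_plus _) _,
    Nodes.TypeD.finite_W (Nodes.TypeD.M (n + 1)).toCoxeterSystem,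
    G1D_eq_top (wplus (n + 3) F) (toPOmega hG) (toPOmega_surjective hG) (adm_plus _) _, by omega,
    fun h => absurd h (by omega), fun h => absurd h (by omega), ?_⟩
  rintro - hp2 ⟨t, ht⟩ i
  have h1 : ∀ s : Fin (n + 1 + 2), s ≠ t → Nodes.TypeD.Adj s t ∨ Nodes.TypeD.Adj t s := by
    intro s hs
    by_contra hcon
    apply ht s hs
    show (if s = t then 1 else if Nodes.TypeD.Adj s t ∨ Nodes.TypeD.Adj t s then 3 else 2) = 2
    rw [if_neg hs, if_neg hcon]
  have h2 : ∀ k : ℕ, (hk : k < n + 1 + 2) → k ≠ t → (((t : ℕ) < n + 1 + 1 ∧ k + 1 = t ∨ (t : ℕ) = n + 1 + 1 ∧ k + 2 = t) ∨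
      (k < n + 1 + 1 ∧ (t : ℕ) + 1 = k ∨ k = n + 1 + 1 ∧ (t : ℕ) + 2 = k)) := by
    intro k hk hne
    have h3 : (⟨k, hk⟩ : Fin (n + 1 + 2)) ≠ t := fun h => hne (congrArg Fin.val h)
    exact h1 ⟨k, hk⟩ h3
  have hn1 : n = 1 := by
    by_contra hne
    have h3 := h2 0 (by omega)
    have h4 := h2 1 (by omega)
    have h5 := h2 2 (by omega)
    have h6 := h2 3 (by omega)
    have h7 := h2 4 (by omega)
    omega
  refine ⟨?_, fun h => absurd h hp2⟩
  have h3 := KFacts.SLRow.OmegaPlus.card_XD (wplus (n + 3) F) hG (Nodes.TypeD.M (n + 1)).toCoxeterSystem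
    (isRoot_sr (Nodes.TypeD.M (n + 1)).toCoxeterSystem (Nodes.TypeD.isCartan (n + 1)) i)
  exact (hq hn1 hp2).trans h3.ge

end Orthogonal

section Exc

open Cfsg.Lie Cfsg.Agent.ChevalleyStructure Cfsg.Agent.ChevalleyStructure.Elts
  Cfsg.Agent.ChevalleyStructure.RootVec Cfsg.Agent.ChevalleyStructure.RootVecTab
  Cfsg.Agent.ChevalleyStructure.NPerm Cfsg.Agent.ChevalleyStructure.CoxeterGeomTypes
open Cfsg.Agent.Nodes Cfsg.Agent.Nodes.RGDChev Cfsg.Agent.KFacts.RgdFiltChev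

theorem t_group {D : ChevalleyDatum} {l : ℕ} {M : CoxeterMatrix (Fin l)} (hp : IsType D l M) (hl : 4 ≤ l) (K : Type u)
    [Field K] [Finite K] (p : ℕ) [CharP K p] (hD : ¬ ∃ t : Fin l, ∀ s, s ≠ t → M s t ≠ 2) : HasThree p ↥(D.group K) :=
  have : Fact p.Prime := ⟨CharP.char_is_prime K p⟩
  ⟨l, M, cartanOf D l, hp.isCartan, _, _, _, rgd (K := K) hp M.toCoxeterSystem p,
    finite_W hp M.toCoxeterSystem, G1_eq_top hp _, by omega, fun h => absurd h (by omega), fun h => absurd h (by omega),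
    fun _ _ h => absurd h hD⟩

theorem w_group {D : ChevalleyDatum} {M : CoxeterMatrix (Fin 2)} (hp : IsType D 2 M) (K : Type u)
    [Field K] [Finite K] (p : ℕ) [CharP K p] (hq : 4 ≤ Nat.card K) (hsw : SwapRow p ↥(D.group K)) :
    HasTwo p ↥(D.group K) := by
  have : Fact p.Prime := ⟨CharP.char_is_prime K p⟩
  have : Fintype K := Fintype.ofFinite K
  have : Finite ↥(D.group K) := inferInstance
  refine ⟨M, cartanOf D 2, hp.isCartan, _, _, _, rgd (K := K) hp M.toCoxeterSystem p,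
    finite_W hp M.toCoxeterSystem, G1_eq_top hp _, fun i => ?_, Or.inl hsw⟩
  have h4 : 4 ≤ Nat.card ↥((XV D 2 K (sr i)).subgroupOf (D.group K)) := by
    rw [H62.PPChev.card_X hp M.toCoxeterSystem (isRoot_sr M.toCoxeterSystem hp.isCartan i), ← Nat.card_eq_fintype_card]
    exact hq
  refine ⟨h4, fun hr => twoInv_of_exp h4 fun u hu => ?_⟩
  have := charP_two (F := K) hr
  rw [Subgroup.mem_subgroupOf, XV_sr hp, mem_rootSubgroup_iff hp.inList] at hu
  obtain ⟨t, ht⟩ := hu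
  apply Subtype.ext
  show (u : GL D.Idx K) ^ 2 = 1
  rw [ht]
  exact sq_of_add (f := xG hp.inList (D.simple i)) (fun a b => (xG_add hp.inList _ a b).symm) t

end Exc

section Fold

open Cfsg.Lie Cfsg.Agent.ChevalleyStructure Cfsg.Agent.ChevalleyStructure.Elts
  Cfsg.Agent.Nodes.RGDChev Cfsg.Agent.Nodes.RGDFold Cfsg.Agent.Nodes.RGDFoldSL Cfsg.Agent.KFacts.RgdFiltTwAll
open Cfsg.Agent.FixBN.FieldRGD
open scoped MatrixGroups

theorem w_twD4 {K : Type} [Field K] [Fintype K] {q : ℕ} (hq : IsPrimePow q) (hK : Fintype.card K = q ^ 3)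
    (h4 : 4 ≤ q) (p : ℕ) [CharP K p] : HasTwo p ↥(twistedD4 K q) := by
  have : Fact p.Prime := ⟨CharP.char_is_prime K p⟩
  obtain ⟨φ, hφ⟩ := D4Fixed.exists_frob hq hK
  have hle := D4Fixed.twisted_le_fix hK hφ
  have : Finite ↥(twistedD4 K q) := inferInstance
  have hc0 := ClosedExc.TwD4.card_X0 hφ hle hq.two_le hK
  have hc1 := ClosedExc.TwD4.card_X1 hφ hle
  rw [hK] at hc1
  have hlt : q < q ^ 3 := by nlinarith [Nat.pow_le_pow_left h4 3, Nat.pow_le_pow_left h4 2, pow_succ q 2]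
  refine ⟨CoxeterMatrix.G₂, Nodes.RGDTwD4.A, Nodes.RGDTwD4.isCartan, _, _, _,
    rgd CoxeterMatrix.G₂.toCoxeterSystem Nodes.RGDTwD4.isCartan Nodes.RGDTwD4.foldData (Nodes.RGDTwD4.foldGrp hφ hle) p,
    finite_W (hp := Nodes.RGDTwD4.hp) CoxeterMatrix.G₂.toCoxeterSystem Nodes.RGDTwD4.isCartan Nodes.RGDTwD4.foldData,
    G1_eq_top CoxeterMatrix.G₂.toCoxeterSystem Nodes.RGDTwD4.isCartan Nodes.RGDTwD4.foldData
      (Nodes.RGDTwD4.foldGrp hφ hle) p, fun i => ?_, Or.inr ?_⟩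
  · have hc : 4 ≤ Nat.card (Nodes.RGDTwD4.X φ q (sr i)) := by
      fin_cases i
      · exact h4.trans hc0.ge
      · exact (h4.trans hlt.le).trans hc1.ge
    refine ⟨hc, fun hr => twoInv_of_exp hc fun u hu => ?_⟩
    have := charP_two (F := K) hr
    have N := Nodes.RGDTwNode.D4.nodeOK i
    obtain ⟨a, rfl⟩ := (mem_X_iff (Nodes.RGDTwD4.foldGrp hφ hle) N
      (φ := φ) (fun s hs t => by rw [Nodes.RGDTwNode.D4.eps_one i s hs, Int.cast_one, one_mul]) u).1 hu
    rw [← map_pow]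
    have h1 : (SL2Hom.up a) ^ 2 = 1 := by
      have h0 : a + a = 0 := Subtype.ext (CharTwo.add_self_eq_zero _)
      apply Subtype.ext
      show (!![1, a; 0, 1] : Matrix (Fin 2) (Fin 2) _) ^ 2 = 1
      rw [pow_two, Matrix.mul_fin_two, Matrix.one_fin_two]
      simp [h0]
    rw [h1, map_one]
  · intro h
    have h5 : q = q ^ 3 := hc0.symm.trans (h.trans hc1)
    omega

theorem t_twE6 {K : Type u} [Field K] [Fintype K] {q : ℕ} (hq : IsPrimePow q) (hK : Fintype.card K = q ^ 2)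
    (p : ℕ) [CharP K p] : HasThree p ↥(twistedE6 K q) := by
  have : Fact p.Prime := ⟨CharP.char_is_prime K p⟩
  obtain ⟨φ, hφ, hqq⟩ := TwE6Basic.exists_frob hq hK
  have FG := Nodes.RGDTwE6.foldGrp hφ hqq
  refine ⟨4, CoxeterMatrix.F₄, Nodes.RGDTwE6.A, Nodes.RGDTwE6.isCartan, _, _, _,
    rgd CoxeterMatrix.F₄.toCoxeterSystem Nodes.RGDTwE6.isCartan Nodes.RGDTwE6.foldData FG p,
    finite_W (hp := Nodes.RGDTwE6.hp) CoxeterMatrix.F₄.toCoxeterSystem Nodes.RGDTwE6.isCartan Nodes.RGDTwE6.foldData,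
    G1_eq_top CoxeterMatrix.F₄.toCoxeterSystem Nodes.RGDTwE6.isCartan Nodes.RGDTwE6.foldData FG p,
    by norm_num, fun h => absurd h (by omega), fun h => absurd h (by omega), fun _ _ h => absurd h ?_⟩
  decide +kernel

end Fold

end Families

end Cfsg.Agent.H483.Rad23.Fam
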