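import Mathlib
import Cfsg.Agent.H483.Rad23.Fam
import Cfsg.Agent.H975.Rad.PslFld
import Cfsg.Agent.H724.RowTwoPsu3
import Cfsg.Agent.H410.RowTwoEnd
import Cfsg.Agent.H896.Rad23.Psl3
import Cfsg.Agent.H71.SwapSpFour
import Cfsg.Agent.H958.Swap.GTwo
import Cfsg.Agent.H958.Swap.NoSwap
import Cfsg.Agent.H519.RowU5
import Cfsg.Agent.H96.Rad2.GTwoThree
import Cfsg.Agent.H610.Rad23.D4
import Cfsg.Agent.H150.RadTwo.SpSix
import Cfsg.Agent.H150.RadTwo.PslFour
import Cfsg.Agent.H150.RadTwo.PslFourTwo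
import Cfsg.Agent.H112.Row2.SpSix
import Cfsg.Agent.H112.Row2.OrthSeven
import Cfsg.Agent.H206.R2Three
import Cfsg.Agent.H823.NoRCTwF

/-!
# The rows of the groups of Lie type for involutions (helper483, S3832, S4336)

* `row2_isBig` : rank at least two, `2F4(q)` excepted;
* `row2_lie` : all groups of Lie type.
-/

set_option autoImplicit false
set_option linter.unusedSectionVars false

namespace Cfsg.Agent.H483.Rad23.RowsLie

open Cfsg Subgroup Cfsg.Agent.H459.NonFix Cfsg.Agent.H459.NonFixLie Cfsg.Agent.H483.Rad23 Cfsg.Agent.H483.Rad23.Fam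
open Cfsg.Lie Cfsg.Agent.ChevalleyStructure.CoxeterGeomTypes Cfsg.Agent.Nodes.RGDChev

universe u

section

variable {K : Type u} [Group K] [Finite K] [IsSimpleGroup K] {r : ℕ}

theorem three_row [Fact r.Prime] (hB : IsBig r K) {L : Type*} [Group L] [Finite L] (e : K ≃* L) (h : HasThree r L) :
    Row23 2 K :=
  ((h.of_equiv e.symm).noRC
    (solvable_of_splitAb (H716.SplitAb.hasSplitAb_of_lie Fact.out (isLieTypeChar_of_isBig hB)))
    fun hr => small_of_isBig hr hB).row

theorem two_row [Fact r.Prime] (hB : IsBig r K) {L : Type*} [Group L] [Finite L] (e : K ≃* L) (h : HasTwo r L) :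
    Row23 2 K :=
  (h.of_equiv e.symm).row
    (solvable_of_splitAb (H716.SplitAb.hasSplitAb_of_lie Fact.out (isLieTypeChar_of_isBig hB)))
    fun hr => small_of_isBig hr hB

/-- the rows of `U4(2) = PSp4(3)` and `U4(3)` -/
structure Small3 : Prop where
  psp43 : ∀ (K : Type u) [Group K] [Finite K] [IsSimpleGroup K] (F : Type) [Field F] [Fintype F],
    Fintype.card F = 3 → Nonempty (K ≃* PSp 2 F) → Row23 2 K
  psu42 : ∀ (K : Type u) [Group K] [Finite K] [IsSimpleGroup K] (F : Type) [Field F] [Fintype F],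
    Fintype.card F = 4 → Nonempty (K ≃* PSU 4 F 2) → Row23 2 K
  psu43 : ∀ (K : Type u) [Group K] [Finite K] [IsSimpleGroup K] (F : Type) [Field F] [Fintype F],
    Fintype.card F = 9 → Nonempty (K ≃* PSU 4 F 3) → Row23 2 K

theorem two_le_of_card {F : Type*} [Field F] [Fintype F] {q k : ℕ} (hF : Fintype.card F = q ^ k) : 2 ≤ q := by
  have h1 : 1 < Fintype.card F := Fintype.one_lt_card
  rw [hF] at h1
  by_contra hcon
  have h2 : q ^ k ≤ 1 := by
    calc q ^ k ≤ 1 ^ k := Nat.pow_le_pow_left (by omega) k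
      _ = 1 := one_pow k
  omega

/-- **The rows of the groups of rank at least two.** -/
theorem row2_isBig (hS : Small3.{u}) (hr : r.Prime) (hB : IsBig r K) : Row23 2 K := by
  have : Fact r.Prime := ⟨hr⟩
  have hB' := hB
  rcases hB with h | h | h | h | h | h | h | h
  · -- `PSL`
    obtain ⟨F, _, _, _, n, hn, e⟩ := h
    have hF2 : 2 ≤ Fintype.card F := Fintype.one_lt_card
    have hfin : Finite (Matrix.ProjectiveSpecialLinearGroup (Fin n) F) := Quotient.finite _
    by_cases h3 : n = 3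
    · subst h3
      exact Cfsg.Agent.H896.Rad23.row2_psl3 e
    by_cases h4 : n = 4
    · subst h4
      by_cases hq2 : Fintype.card F = 2
      · exact Cfsg.Agent.H150.RadTwo.PslFourTwo.row2_psl42 hq2 e
      by_cases hq3 : Fintype.card F = 3
      · exact Cfsg.Agent.H150.RadTwo.PslFour.row2_psl43 hq3 e
      obtain ⟨e⟩ := e
      exact three_row hB' e (t_PSL 3 le_rfl fun _ => by rw [Nat.card_eq_fintype_card]; omega)
    · obtain ⟨e⟩ := e
      obtain ⟨m, rfl⟩ : ∃ m, n = m + 1 := ⟨n - 1, by omega⟩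
      exact three_row hB' e (t_PSL m (by omega) fun h => by omega)
  · -- `PSp`
    obtain ⟨F, _, _, _, m, hm, hm3, e⟩ := h
    have hF2 : 2 ≤ Fintype.card F := Fintype.one_lt_card
    have hfin : Finite (PSp m F) := Quotient.finite _
    by_cases h2 : m = 2
    · subst h2
      have h3 := hm3 rfl
      by_cases hq3 : Fintype.card F = 3
      · exact hS.psp43 K F hq3 e
      have hsw : SwapRow r K := by
        by_cases hr2 : r = 2
        · subst hr2
          exact Cfsg.Agent.H71.SwapSpFour.swap_psp4 e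
        · exact Cfsg.Agent.H958.Swap.noswap_psp4 hr2 (by omega) e
      obtain ⟨e⟩ := e
      exact two_row hB' e (w_PSp (by rw [Nat.card_eq_fintype_card]; omega) (hsw.congr e.symm))
    by_cases h3 : m = 3
    · subst h3
      by_cases hq2 : Fintype.card F = 2
      · exact Cfsg.Agent.H150.RadTwo.SpSix.row2_sp62 hq2 e
      by_cases hq3 : Fintype.card F = 3
      · exact Cfsg.Agent.H112.Row2.SpSix.row2_psp63 hq3 e
      obtain ⟨e⟩ := e
      exact three_row hB' e (t_PSp le_rfl fun _ => by rw [Nat.card_eq_fintype_card]; omega)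
    · obtain ⟨e⟩ := e
      exact three_row hB' e (t_PSp (by omega) fun h => absurd h h3)
  · -- `PSU`
    obtain ⟨F, _, _, _, n, q, hF, hn, e⟩ := h
    have hq2 := two_le_of_card hF
    have hfin : Finite (PSU n F q) := Quotient.finite _
    by_cases h4 : n = 4
    · subst h4
      by_cases h2 : q = 2
      · subst h2
        exact hS.psu42 K F (by rw [hF]; norm_num) e
      by_cases h3 : q = 3
      · subst h3
        exact hS.psu43 K F (by rw [hF]; norm_num) e
      obtain ⟨e⟩ := e
      exact two_row hB' e (w_PSU4 hF (by omega))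
    by_cases h5 : n = 5
    · subst h5
      by_cases h2 : q = 2
      · subst h2
        exact Cfsg.Agent.H519.RowU5.row2_psu52 (by rw [hF]; norm_num) e
      obtain ⟨e⟩ := e
      refine two_row hB' e (w_PSU5 hF (by omega) fun hr2 => ?_)
      by_contra hcon
      have hq3 : q = 3 := by omega
      subst hq3 hr2
      obtain ⟨k, -, hk⟩ := FiniteField.card F 2
      rw [hF] at hk
      have h6 : Odd (3 ^ 2) := by decide
      rw [hk] at h6
      exact absurd h6 (by
        rw [Nat.not_odd_iff_even]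
        exact (Nat.even_pow.2 ⟨even_two, k.ne_zero⟩))
    · obtain ⟨e⟩ := e
      exact three_row hB' e (t_PSU hF (by omega))
  · -- odd dimension
    obtain ⟨F, _, _, _, m, hm, hodd, e⟩ := h
    have hfin : Finite (POmega F (quadFormOdd m F)) := Quotient.finite _
    have hF2 : 2 ≤ Fintype.card F := Fintype.one_lt_card
    have h2 : (2 : F) ≠ 0 := by
      intro h2
      have h3 : CharP F 2 := CharTwo.of_one_ne_zero_of_two_eq_zero one_ne_zero h2
      obtain ⟨k, -, hk⟩ := FiniteField.card F 2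
      rw [hk] at hodd
      exact absurd hodd (by
        rw [Nat.not_odd_iff_even]
        exact (Nat.even_pow.2 ⟨even_two, k.ne_zero⟩))
    by_cases hq : m = 3 ∧ Fintype.card F = 3
    · obtain ⟨rfl, hq⟩ := hq
      exact Cfsg.Agent.H112.Row2.OrthSeven.row2_o73 hq e
    · obtain ⟨e⟩ := e
      refine three_row hB' e (t_PO_odd h2 hm fun h3 => ?_)
      rw [Nat.card_eq_fintype_card]
      have h4 : Fintype.card F ≠ 3 := fun h => hq ⟨h3, h⟩
      have h5 : Fintype.card F ≠ 2 := fun h => by rw [h] at hodd; exact absurd hodd (by decide)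
      omega
  · -- plus type
    obtain ⟨F, _, _, _, m, hm, e⟩ := h
    have hfin : Finite (POmega F (quadFormPlus m F)) := Quotient.finite _
    have hF2 : 2 ≤ Fintype.card F := Fintype.one_lt_card
    by_cases hq : m = 4 ∧ Fintype.card F = 3
    · obtain ⟨rfl, hq⟩ := hq
      exact Cfsg.Agent.H206.R2Three.row2_o8p3 hq e
    · obtain ⟨e⟩ := e
      obtain ⟨n, rfl⟩ : ∃ n, m = n + 3 := ⟨m - 3, by omega⟩
      refine three_row hB' e (t_PO_plus n (by omega) fun h3 hr2 => ?_)
      rw [Nat.card_eq_fintype_card]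
      have h4 : Fintype.card F ≠ 3 := fun h => hq ⟨by omega, h⟩
      have h5 : Fintype.card F ≠ 2 := fun h => by
        apply hr2
        obtain ⟨k, -, hk⟩ := FiniteField.card F r
        rw [h] at hk
        have h6 : r ∣ 2 := by
          rw [hk]
          exact dvd_pow_self r k.ne_zero
        exact (Nat.prime_dvd_prime_iff_eq hr Nat.prime_two).1 h6
      omega
  · -- minus type
    obtain ⟨F, _, _, _, m, a, b, hm, hab, ⟨e⟩⟩ := h
    have hfin : Finite (POmega F (quadFormMinus (m - 1) F a b)) := Quotient.finite _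
    exact three_row hB' e (t_PO_minus a b hab (by omega))
  · -- exceptional groups
    obtain ⟨F, _, _, _, ⟨h3, e⟩ | ⟨⟨e⟩⟩ | ⟨⟨e⟩⟩ | ⟨⟨e⟩⟩ | ⟨⟨e⟩⟩⟩ := h
    · by_cases hq3 : Fintype.card F = 3
      · exact Cfsg.Agent.H96.Rad2.row2_g23 hq3 e
      have hsw : SwapRow r K := by
        by_cases hr3 : r = 3
        · subst hr3
          exact Cfsg.Agent.H958.Swap.swap_g2 e
        · exact Cfsg.Agent.H958.Swap.noswap_g2 hr3 (by omega) e
      obtain ⟨e⟩ := e
      have hfin : Finite ↥(chevG2.group F) := inferInstance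
      exact two_row hB' e (w_group (M := CoxeterMatrix.G₂) (by simp [IsType, typeList]) F r
        (by rw [Nat.card_eq_fintype_card]; omega) (hsw.congr e.symm))
    · have hfin : Finite ↥(chevF4.group F) := inferInstance
      exact three_row hB' e (t_group (l := 4) (M := CoxeterMatrix.F₄) (by simp [IsType, typeList]) (by norm_num) F r
        (by decide +kernel))
    · have hfin : Finite ↥(chevE6.group F) := inferInstance
      exact three_row hB' e (t_group (l := 6) (M := CoxeterMatrix.E₆) (by simp [IsType, typeList]) (by norm_num) F r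
        (by decide +kernel))
    · have hfin : Finite ↥(chevE7.group F) := inferInstance
      exact three_row hB' e (t_group (l := 7) (M := CoxeterMatrix.E₇) (by simp [IsType, typeList]) (by norm_num) F r
        (by decide +kernel))
    · have hfin : Finite ↥(chevE8.group F) := inferInstance
      exact three_row hB' e (t_group (l := 8) (M := CoxeterMatrix.E₈) (by simp [IsType, typeList]) (by norm_num) F r
        (by decide +kernel))
  · -- twisted groups
    obtain ⟨F, _, _, _, q, hq, ⟨hF, ⟨e⟩⟩ | ⟨hF, e⟩⟩ := h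
    · have hfin : Finite ↥(twistedE6 F q) := inferInstance
      exact three_row hB' e (t_twE6 hq hF r)
    · have hq2 := two_le_of_card hF
      by_cases h2 : q = 2
      · subst h2
        exact Cfsg.Agent.H610.Rad23.row2_3d42 (by rw [hF]; norm_num) e
      by_cases h3 : q = 3
      · subst h3
        exact Cfsg.Agent.H610.Rad23.row2_3d43 (by rw [hF]; norm_num) e
      obtain ⟨e⟩ := e
      have hfin : Finite ↥(twistedD4 F q) := inferInstance
      exact two_row hB' e (w_twD4 hq hF (by omega) r)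

/-- the ends (copied from `H459.Assemble`) -/
theorem isLie_cases (h : IsLieTypeChar r K) :
    IsBig r K ∨ (∃ (F : Type) (_ : Field F) (_ : Fintype F), Nonempty (K ≃* Matrix.ProjectiveSpecialLinearGroup (Fin 2) F)) ∨
      (∃ (F : Type) (_ : Field F) (_ : Fintype F) (q : ℕ), Fintype.card F = q ^ 2 ∧ Nonempty (K ≃* PSU 3 F q)) ∨
      Lie.IsoSuzuki K ∨ (r = 2 ∧ Lie.Iso2F4 K) ∨ Lie.IsoRee K := by
  rcases h with h | h | h | h | h | h | h | h | ⟨-, h⟩ | ⟨hr, h⟩ | ⟨-, h⟩
  · obtain ⟨F, i1, i2, i3, n, hn, -, e⟩ := h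
    rcases hn.eq_or_lt with rfl | hn
    · exact Or.inr (Or.inl ⟨F, i1, i2, e⟩)
    · exact Or.inl (Or.inl ⟨F, i1, i2, i3, n, hn, e⟩)
  · exact Or.inl (Or.inr (Or.inl h))
  · obtain ⟨F, i1, i2, i3, n, q, hF, hn, -, e⟩ := h
    rcases hn.eq_or_lt with rfl | hn
    · exact Or.inr (Or.inr (Or.inl ⟨F, i1, i2, q, hF, e⟩))
    · exact Or.inl (Or.inr (Or.inr (Or.inl ⟨F, i1, i2, i3, n, q, hF, hn, e⟩)))
  · exact Or.inl (Or.inr (Or.inr (Or.inr (Or.inl h))))
  · exact Or.inl (Or.inr (Or.inr (Or.inr (Or.inr (Or.inl h)))))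
  · exact Or.inl (Or.inr (Or.inr (Or.inr (Or.inr (Or.inr (Or.inl h))))))
  · exact Or.inl (Or.inr (Or.inr (Or.inr (Or.inr (Or.inr (Or.inr (Or.inl h)))))))
  · exact Or.inl (Or.inr (Or.inr (Or.inr (Or.inr (Or.inr (Or.inr (Or.inr h)))))))
  · exact Or.inr (Or.inr (Or.inr (Or.inl h)))
  · exact Or.inr (Or.inr (Or.inr (Or.inr (Or.inl ⟨hr, h⟩))))
  · exact Or.inr (Or.inr (Or.inr (Or.inr (Or.inr h))))

/-- **The rows of the groups of Lie type.** -/
theorem row2_lie (hS : Small3.{u}) (hr : r.Prime) (h : IsLieTypeChar r K) : Row23 2 K := by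
  rcases isLie_cases h with h1 | ⟨F, _, _, e⟩ | ⟨F, _, _, q, hF, e⟩ | h1 | ⟨-, h1⟩ | h1
  · exact row2_isBig hS hr h1
  · exact Cfsg.Agent.H975.Rad.row2_psl2 e
  · exact Cfsg.Agent.H724.RowPsu.row2_psu3 hF e
  · exact Cfsg.Agent.H410.RowTwoEnd.row2_suzuki h1
  · exact (Cfsg.Agent.H823.NoRCTwF.noRC_twF4 h1).row
  · exact Cfsg.Agent.H410.RowTwoEnd.row2_ree h1

end

end Cfsg.Agent.H483.Rad23.RowsLie
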