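import Mathlib
import Cfsg.Agent.H483.Rad23.Base
import Cfsg.Prelude.Def_Classification2
import Cfsg.Agent.H119.RadMathieu
import Cfsg.Agent.H383.R23.J1
import Cfsg.Agent.H383.R23.J2
import Cfsg.Agent.H383.R23.J3
import Cfsg.Agent.H96.Rad2.Th
import Cfsg.Agent.H96.Rad2.Ly
import Cfsg.Agent.H96.Rad2.JFour
import Cfsg.Agent.H817.RadHS
import Cfsg.Agent.H817.RadMcL
import Cfsg.Agent.H681.RadSuz
import Cfsg.Agent.H681.RadRu
import Cfsg.Agent.H831.CoRadRows
import Cfsg.Agent.H815.Row2He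
import Cfsg.Agent.H815.Row2ON
import Cfsg.Agent.H173.Rad2.HN
import Cfsg.Agent.H961.Rad2B
import Cfsg.Agent.H961.Rad2M

/-!
# The rows of the sporadic groups for involutions (helper483, S3832, S4336)
-/

set_option autoImplicit false
set_option linter.unusedSectionVars false

namespace Cfsg.Agent.H483.Rad23.RowsSpor

open Cfsg Subgroup Cfsg.Agent.H483.Rad23

universe u

/-- the rows of the Fischer groups -/
structure Fischer : Prop where
  fi22 : ∀ (K : Type u) [Group K] [Finite K] [IsSimpleGroup K], Spor.IsoFi22 K → Row23 2 K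
  fi23 : ∀ (K : Type u) [Group K] [Finite K] [IsSimpleGroup K], Spor.IsoFi23 K → Row23 2 K
  fi24 : ∀ (K : Type u) [Group K] [Finite K] [IsSimpleGroup K], Spor.IsoFi24' K → Row23 2 K

theorem row2_spor (hF : Fischer.{u}) {K : Type u} [Group K] [Finite K] [IsSimpleGroup K] (h : IsSporadicGroup K) :
    Row23 2 K := by
  rcases h with h | h | h | h | h | h | h | h | h | h | h | h | h | h | h | h | h | h | h | h | h | h | h | h | h | h
  · exact Cfsg.Agent.H119.RadM.row2_m11 h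
  · exact Cfsg.Agent.H119.RadM.row2_m12 h
  · exact Cfsg.Agent.H119.RadM.row2_m22 h
  · exact Cfsg.Agent.H119.RadM.row2_m23 h
  · exact Cfsg.Agent.H119.RadM.row2_m24 h
  · exact Cfsg.Agent.H383.R23.J1.row2_j1 h
  · exact Cfsg.Agent.H383.R23.J2.row2_j2 h
  · exact Cfsg.Agent.H383.R23.J3.row2_j3 h
  · exact Cfsg.Agent.H96.Rad2.row2_j4 h
  · exact Cfsg.Agent.H831.CoRad.row2_co1 h
  · exact Cfsg.Agent.H831.CoRad.row2_co2 h
  · exact Cfsg.Agent.H831.CoRad.row2_co3 h
  · exact Cfsg.Agent.H817.RadMcL.row2_mcl h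
  · exact Cfsg.Agent.H817.RadHS.row2_hs h
  · exact Cfsg.Agent.H681.RadSuz.row2_suz h
  · exact Cfsg.Agent.H815.Row2He.row2_he h
  · exact Cfsg.Agent.H681.RadRu.row2_ru h
  · exact Cfsg.Agent.H815.Row2ON.row2_on h
  · exact Cfsg.Agent.H96.Rad2.row2_ly h
  · exact hF.fi22 K h
  · exact hF.fi23 K h
  · exact hF.fi24 K h
  · exact Cfsg.Agent.H173.Rad2.HNRow.row2_hn h
  · exact Cfsg.Agent.H96.Rad2.row2_th h
  · exact Cfsg.Agent.H961.Rad2B.row2_b h
  · exact Cfsg.Agent.H961.Rad2M.row2_m h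

end Cfsg.Agent.H483.Rad23.RowsSpor
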