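import Mathlib
import Cfsg.Agent.H483.Rad23.RowsLie
import Cfsg.Agent.H483.Rad23.RowsSpor
import Cfsg.Agent.H748.Rad2Alt
import Cfsg.Agent.H71.Rad2Tits
import Cfsg.Agent.H499.Rad2.SpRow
import Cfsg.Agent.OddHalf.Known

/-!
# The rows of the known simple groups for involutions (helper483, S3832, S4336)
-/

set_option autoImplicit false
set_option linter.unusedSectionVars false

namespace Cfsg.Agent.H483.Rad23.Rows2

open Cfsg Subgroup Cfsg.Agent.H483.Rad23 Cfsg.Agent.H483.Rad23.RowsLie Cfsg.Agent.H483.Rad23.RowsSpor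

universe u

theorem small3 (h : ∀ (K : Type u) [Group K] [Finite K] [IsSimpleGroup K] (F : Type) [Field F] [Fintype F],
    Fintype.card F = 9 → Nonempty (K ≃* PSU 4 F 3) → Row23 2 K) : Small3.{u} where
  psp43 K _ _ _ F _ _ hF e := Cfsg.Agent.H499.Rad2.row2_psp43 hF e
  psu42 K _ _ _ F _ _ hF e := Cfsg.Agent.H499.Rad2.row2_psu42 hF e
  psu43 := h

/-- **No automorphism of order two of a known simple group is bad.** -/
theorem row2_known (hU : ∀ (K : Type u) [Group K] [Finite K] [IsSimpleGroup K] (F : Type) [Field F] [Fintype F],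
    Fintype.card F = 9 → Nonempty (K ≃* PSU 4 F 3) → Row23 2 K) (hF : Fischer.{u})
    {K : Type u} [Group K] [Finite K] [IsSimpleGroup K] (hna : ¬ IsMulCommutative K) (hK : IsKnownSimple' K) :
    Row23 2 K := by
  rcases Cfsg.Agent.OddHalf.Known.classify' hna hK with ⟨n, hn, ⟨e⟩⟩ | ⟨r, hr, h⟩ | h | h
  · exact (Cfsg.Agent.H748.Rad2Alt.row2_alt hn).congr e
  · exact row2_lie (small3 hU) hr h
  · exact Cfsg.Agent.H71.Rad2Tits.row2_tits h
  · exact row2_spor hF h

end Cfsg.Agent.H483.Rad23.Rows2
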